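import Mathlib
import Groth.Agent.Lib.Helper19.HomColimTop
import Groth.Agent.Lib.QCoh.Helper50_FiltColim
import Groth.Agent.Lib.QCoh.Helper49_FP
import Groth.Agent.Lib.QCoh.Helper24_Colimits
import Groth.Prelude.Def_QCohCat

/-!
# Compact objects of `QCoh(X)` on a qcqs scheme (lead)

ns `Groth.Agent.Lib.RelVA.QCohCompact`.
-/

set_option autoImplicit false
set_option linter.style.haveILetI false
set_option linter.unusedSectionVars false
universe u
open CategoryTheory CategoryTheory.Limits AlgebraicGeometry Opposite TopologicalSpace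

namespace Groth.Agent.Lib.RelVA.QCohCompact

variable (X : Scheme.{u})

/-- on a qcqs scheme every open cover is refined by a finite cover with compact pairwise
intersections -/
theorem exists_finite_refinement [CompactSpace X] [QuasiSeparatedSpace X]
    (ι : Type u) (V : ι → Opens X) (hV : iSup V = ⊤) :
    ∃ (J : Type u) (_ : Finite J) (U : J → Opens X), iSup U = ⊤ ∧ (∀ j, ∃ i, U j ≤ V i) ∧
      ∀ j j', IsCompact ((U j ⊓ U j' : Opens X) : Set X) := by
  have h : ∀ x : X, ∃ (W : X.Opens) (i : ι), IsAffineOpen W ∧ x ∈ W ∧ W ≤ V i := by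
    intro x
    have hx : x ∈ iSup V := by rw [hV]; trivial
    obtain ⟨i, hi⟩ := Opens.mem_iSup.1 hx
    obtain ⟨W, hW, hxW, hWi⟩ := Opens.isBasis_iff_nbhd.1 X.isBasis_affineOpens hi
    exact ⟨W, i, hW, hxW, hWi⟩
  choose W i hW hxW hWi using h
  obtain ⟨t, ht⟩ := isCompact_univ.elim_finite_subcover (fun x : X => (W x : Set X))
    (fun x => (W x).isOpen) (fun x _ => Set.mem_iUnion.2 ⟨x, hxW x⟩)
  refine ⟨{x : X // x ∈ t}, inferInstance, fun j => W j.1, ?_, fun j => ⟨i j.1, hWi j.1⟩, ?_⟩
  · rw [eq_top_iff]
    intro x _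
    have := ht (Set.mem_univ x)
    simp only [Set.mem_iUnion] at this
    obtain ⟨y, hy, hxy⟩ := this
    exact Opens.mem_iSup.2 ⟨⟨y, hy⟩, hxy⟩
  · intro j j'
    exact QuasiSeparatedSpace.inter_isCompact _ _ (W j.1).isOpen (hW j.1).isCompact
      (W j'.1).isOpen (hW j'.1).isCompact


variable {X}

/-- `Hom(G, -)` on `X.Modules` preserves filtered colimits for `G` of finite presentation. -/
theorem preservesColimit_coyoneda_modules [CompactSpace X] [QuasiSeparatedSpace X]
    (G : X.Modules) [G.IsFinitePresentation]
    {Λ : Type u} [SmallCategory Λ] [IsFiltered Λ] (D : Λ ⥤ X.Modules) :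
    PreservesColimit D (coyoneda.obj (op G)) :=
  Groth.Agent.Lib.Helper19.HomColim.preservesColimit_coyoneda X.sheaf (T := (⊤ : Opens X))
    isTerminalTop
    (Groth.Agent.Lib.Helper19.HomColimTop.hasFiniteSubcoversQS_top (exists_finite_refinement X))
    G D

/-- a split quotient of a finitely presented module is finitely presented -/
theorem finitePresentation_of_retract {R M N : Type*} [CommRing R] [AddCommGroup M] [Module R M]
    [AddCommGroup N] [Module R N] [Module.FinitePresentation R M] (s : N →ₗ[R] M)
    (r : M →ₗ[R] N) (h : ∀ x, r (s x) = x) : Module.FinitePresentation R N := by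
  refine Module.finitePresentation_of_surjective r (fun x => ⟨s x, h x⟩) ?_
  have hk : LinearMap.ker r = LinearMap.range (LinearMap.id - s ∘ₗ r) := by
    ext x
    constructor
    · intro hx
      refine ⟨x, ?_⟩
      have : r x = 0 := hx
      simp [this]
    · rintro ⟨y, rfl⟩
      show r _ = 0
      simp [h]
  rw [hk, LinearMap.range_eq_map]
  exact (Module.Finite.fg_top (R := R) (M := M)).map (LinearMap.id - s ∘ₗ r)

/-- a retract of a finitely presented quasi-coherent module is finitely presented -/
theorem isFinitePresentation_of_retract {F G : X.Modules} [F.IsQuasicoherent]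
    [G.IsFinitePresentation] (s : F ⟶ G) (r : G ⟶ F) (h : s ≫ r = 𝟙 F) :
    F.IsFinitePresentation := by
  rw [Groth.Agent.Lib.QCoh.isFinitePresentation_iff_forall_finitePresentation]
  intro U
  haveI : Module.FinitePresentation Γ(X, (U : X.Opens)) Γ(G, (U : X.Opens)) :=
    Groth.Agent.Lib.QCoh.finitePresentation_Γ_of_isAffineOpen U.2 G
  refine finitePresentation_of_retract (Groth.Agent.Lib.QCoh.appLinear s U)
    (Groth.Agent.Lib.QCoh.appLinear r U) (fun x => ?_)
  have := congrArg (fun f => f.app (U : X.Opens) x) h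
  exact this


section Cat

open QCohCat

variable [CompactSpace X] [QuasiSeparatedSpace X]

instance isClosedUnderColimitsOfShape_isQCoh (Λ : Type u) [SmallCategory Λ] :
    (isQCoh X).IsClosedUnderColimitsOfShape Λ :=
  Groth.Agent.Lib.QCoh.isClosedUnderColimitsOfShape_isQuasicoherent (X := X) (J := Λ)

/-- `Hom(F, -)` on `QCoh X` factors through the inclusion. -/
noncomputable def coyonedaIso (F : QCoh X) :
    coyoneda.obj (op F) ≅ (isQCoh X).ι ⋙ coyoneda.obj (op F.obj) :=
  NatIso.ofComponents (fun G => ((isQCoh X).fullyFaithfulι.homEquiv (X := F) (Y := G)).toIso)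
    (fun {G G'} φ => by
      ext f
      exact (isQCoh X).ι.map_comp f φ)

theorem isFinitelyPresentable_of_fp (F : QCoh X) [F.obj.IsFinitePresentation] :
    IsFinitelyPresentable.{u} F := by
  rw [isFinitelyPresentable_iff_preservesFilteredColimitsOfSize]
  constructor
  intro Λ _ _
  constructor
  intro D
  haveI : PreservesColimit (D ⋙ (isQCoh X).ι) (coyoneda.obj (op F.obj)) :=
    preservesColimit_coyoneda_modules F.obj _
  haveI : PreservesColimit D ((isQCoh X).ι ⋙ coyoneda.obj (op F.obj)) := inferInstance
  exact preservesColimit_of_natIso D (coyonedaIso F).symm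

theorem fp_of_isFinitelyPresentable (F : QCoh X) [IsFinitelyPresentable.{u} F] :
    F.obj.IsFinitePresentation := by
  haveI : F.obj.IsQuasicoherent := F.property
  obtain ⟨I, _, _, _, D, c, ⟨hc⟩, hD⟩ :=
    Groth.Agent.Lib.QCoh.FiltColim.exists_filtered_colimit_fp F.obj
  let D' : I ⥤ QCoh X := (isQCoh X).lift D (fun i => by
    haveI := hD i
    exact (inferInstance : (D.obj i).IsQuasicoherent))
  let c' : Cocone D' :=
    { pt := F
      ι := { app := fun i => ObjectProperty.homMk (c.app i)
             naturality := fun i j f => by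
               apply ObjectProperty.hom_ext
               exact c.naturality f } }
  have hc' : IsColimit c' := by
    apply isColimitOfReflects (isQCoh X).ι
    exact IsColimit.ofIsoColimit hc (Cocones.ext (Iso.refl _) (fun i => by
      simp only [Iso.refl_hom, Category.comp_id]
      rfl))
  obtain ⟨j, p, hp⟩ := IsFinitelyPresentable.exists_hom_of_isColimit hc' (𝟙 F)
  haveI : (D.obj j).IsFinitePresentation := hD j
  have h1 : p.hom ≫ c.app j = 𝟙 F.obj := congrArg (fun f => f.hom) hp
  exact isFinitePresentation_of_retract (G := D.obj j) p.hom (c.app j) h1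

theorem isFinitelyPresentable_iff (F : QCoh X) :
    IsFinitelyPresentable.{u} F ↔ SheafOfModules.IsFinitePresentation F.obj :=
  ⟨fun h => by haveI := h; exact fp_of_isFinitelyPresentable F,
    fun h => by haveI := h; exact isFinitelyPresentable_of_fp F⟩

end Cat

end Groth.Agent.Lib.RelVA.QCohCompact
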