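import Mathlib
import Groth.Agent.Lib.RelVA.QCohCompact
import Groth.Agent.Lib.QCoh.Local
import Groth.Agent.Lib.QCoh.Helper50_Products
import Groth.Agent.Lib.QCoh.Helper43_PushQcqs
import Groth.Agent.Lib.Helper56.Hashimoto
import Groth.Agent.Lib.Helper99.RestrKInj
import Groth.Prelude.Def_QCohCat

/-!
# The special adjoint functor theorem for `QCoh(X)`, `X` qcqs (lead)

ns `Groth.Agent.Lib.RelVA.QCohSAFT`.
-/

set_option autoImplicit false
set_option linter.style.haveILetI false
set_option linter.unusedSectionVars false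
universe u
open CategoryTheory CategoryTheory.Limits AlgebraicGeometry Opposite TopologicalSpace ZeroObject

namespace Groth.Agent.Lib.RelVA.QCohSAFT

open QCohCat

variable (X : Scheme.{u})

theorem isQCoh_of_iso {M N : X.Modules} (e : M ≅ N) (h : isQCoh X M) : isQCoh X N :=
  Groth.Agent.Lib.QCoh.isQuasicoherent_of_iso e h

instance isClosedUnderIsomorphisms_isQCoh : (isQCoh X).IsClosedUnderIsomorphisms where
  of_iso e h := isQCoh_of_iso X e h

theorem isQCoh_of_isZero {N : X.Modules} (hN : IsZero N) : isQCoh X N := by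
  have h1 := Groth.Agent.Lib.QCoh.isQuasicoherent_sigma (X := X) (ι := PEmpty.{u + 1})
    (fun i => i.elim) (fun i => i.elim)
  have hz : IsZero (∐ (fun i : PEmpty.{u + 1} => (i.elim : X.Modules))) := by
    rw [IsZero.iff_id_eq_zero]
    apply Sigma.hom_ext
    intro i
    exact i.elim
  exact isQCoh_of_iso X (hz.iso hN) h1

instance containsZero_isQCoh : (isQCoh X).ContainsZero where
  exists_zero := ⟨0, isZero_zero _, isQCoh_of_isZero X (isZero_zero _)⟩

instance isClosedUnderKernels_isQCoh : (isQCoh X).IsClosedUnderKernels where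
  kernels_le := by
    rintro _ ⟨f, k, hk, hf⟩
    exact isQCoh_of_iso X (IsLimit.conePointUniqueUpToIso (kernelIsKernel f) hk)
      (@Groth.Agent.Lib.QCoh.isQuasicoherent_kernel X _ _ hf.1 hf.2 f)

instance isClosedUnderCokernels_isQCoh : (isQCoh X).IsClosedUnderCokernels where
  cokernels_le := by
    rintro _ ⟨f, k, hk, hf⟩
    exact isQCoh_of_iso X (IsColimit.coconePointUniqueUpToIso (cokernelIsCokernel f) hk)
      (@Groth.Agent.Lib.QCoh.isQuasicoherent_cokernel X _ _ hf.1 hf.2 f)

instance isClosedUnderBinaryProducts_isQCoh : (isQCoh X).IsClosedUnderBinaryProducts where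
  limitsOfShape_le := by
    rintro K ⟨p⟩
    haveI : (p.diag.obj ⟨WalkingPair.left⟩).IsQuasicoherent := p.prop_diag_obj _
    haveI : (p.diag.obj ⟨WalkingPair.right⟩).IsQuasicoherent := p.prop_diag_obj _
    exact isQCoh_of_iso X
      ((HasLimit.isoOfNatIso (diagramIsoPair p.diag)).symm ≪≫
        IsLimit.conePointUniqueUpToIso (limit.isLimit _) p.isLimit)
      (Groth.Agent.Lib.QCoh.isQuasicoherent_prod _ _)

instance isClosedUnderFiniteProducts_isQCoh : (isQCoh X).IsClosedUnderFiniteProducts :=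
  ObjectProperty.IsClosedUnderFiniteProducts.mk'

noncomputable instance abelianQCoh : Abelian (QCoh X) :=
  inferInstanceAs (Abelian (isQCoh X).FullSubcategory)

instance additive_ι : (isQCoh X).ι.Additive := inferInstance

instance preservesFiniteLimits_ι : PreservesFiniteLimits (isQCoh X).ι := by
  haveI : ∀ {M N : QCoh X} (f : M ⟶ N), PreservesLimit (parallelPair f 0) (isQCoh X).ι :=
    fun f => (isQCoh X).preservesKernels_ι f
  exact Functor.preservesFiniteLimits_of_preservesKernels _

instance wellPowered_QCoh : WellPowered.{u} (QCoh X) :=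
  Groth.Agent.Lib.Helper56.Hashimoto.wellPowered (isQCoh X).ι

instance wellPowered_QCoh_op : WellPowered.{u} (QCoh X)ᵒᵖ := inferInstance

section
variable [CompactSpace X] [QuasiSeparatedSpace X]

instance hasColimits_QCoh : HasColimitsOfSize.{u, u} (QCoh X) where
  has_colimits_of_shape _ _ := inferInstance

end

section Cover

open Scheme.Modules

variable {X}

/-- morphisms of modules agreeing on the members of an open cover are equal. -/
theorem hom_ext_cover {E N : X.Modules} {φ₁ φ₂ : E ⟶ N} {ι : Type*} (W : ι → X.Opens)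
    (hW : iSup W = ⊤)
    (h : ∀ i, (restrictFunctor (W i).ι).map φ₁ = (restrictFunctor (W i).ι).map φ₂) :
    φ₁ = φ₂ := by
  refine Scheme.Modules.hom_ext _ _ (fun V => ?_)
  ext x
  let κ := {p : Σ i, (W i : Scheme.{u}).Opens // (W p.1).ι ''ᵁ p.2 ≤ V}
  refine TopCat.Sheaf.eq_of_locally_eq' (⟨N.presheaf, N.isSheaf⟩ : TopCat.Sheaf Ab X)
    (fun p : κ => (W p.1.1).ι ''ᵁ p.1.2) V (fun p => homOfLE p.2) ?_ _ _ ?_
  · intro y hy
    obtain ⟨i, hi⟩ : ∃ i, y ∈ W i := by
      have : y ∈ iSup W := hW ▸ trivial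
      exact Opens.mem_iSup.1 this
    have e1 : (W i).ι ''ᵁ ((W i).ι ⁻¹ᵁ V) = W i ⊓ V := by
      rw [Scheme.Hom.image_preimage_eq_opensRange_inf, Scheme.Opens.opensRange_ι]
    refine Opens.mem_iSup.2 ⟨⟨⟨i, (W i).ι ⁻¹ᵁ V⟩, ?_⟩, ?_⟩
    · rw [e1]; exact inf_le_right
    · show y ∈ (W i).ι ''ᵁ ((W i).ι ⁻¹ᵁ V)
      rw [e1]; exact ⟨hi, hy⟩
  · rintro ⟨⟨i, U'⟩, hU'⟩
    have n1 := congrArg (fun f => f x) (φ₁.mapPresheaf.naturality (homOfLE hU').op)
    have n2 := congrArg (fun f => f x) (φ₂.mapPresheaf.naturality (homOfLE hU').op)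
    change N.presheaf.map (homOfLE hU').op (φ₁.app V x) =
      N.presheaf.map (homOfLE hU').op (φ₂.app V x)
    change φ₁.app ((W i).ι ''ᵁ U') (E.presheaf.map (homOfLE hU').op x) =
      N.presheaf.map (homOfLE hU').op (φ₁.app V x) at n1
    change φ₂.app ((W i).ι ''ᵁ U') (E.presheaf.map (homOfLE hU').op x) =
      N.presheaf.map (homOfLE hU').op (φ₂.app V x) at n2
    rw [← n1, ← n2]
    have h3 : φ₁.app ((W i).ι ''ᵁ U') = φ₂.app ((W i).ι ''ᵁ U') :=
      congrArg (fun ψ => ψ.app U') (h i)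
    rw [h3]

/-- the units of the restriction adjunctions for an open cover are jointly monic. -/
theorem mono_lift {ι : Type*} (W : ι → X.Opens) (hW : iSup W = ⊤) (M : X.Modules)
    (N : ∀ i, (W i : Scheme.{u}).Modules) [HasProduct fun i => (pushforward (W i).ι).obj (N i)]
    (e : ∀ i, (restrictFunctor (W i).ι).obj M ≅ N i) :
    Mono (Pi.lift (fun i => (restrictAdjunction (W i).ι).unit.app M ≫
      (pushforward (W i).ι).map (e i).hom)) := by
  constructor
  intro T a b hab
  refine hom_ext_cover W hW (fun i => ?_)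
  have h1 := congrArg (fun f => f ≫ Pi.π _ i) hab
  simp only [Category.assoc, Pi.lift_π] at h1
  have h2 : a ≫ (restrictAdjunction (W i).ι).unit.app M =
      b ≫ (restrictAdjunction (W i).ι).unit.app M := by
    rw [← cancel_mono ((pushforward (W i).ι).map (e i).hom)]
    simpa using h1
  have ha := (restrictAdjunction (W i).ι).unit.naturality a
  have hb := (restrictAdjunction (W i).ι).unit.naturality b
  simp only [Functor.id_obj, Functor.id_map, Functor.comp_obj, Functor.comp_map] at ha hb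
  rw [ha, hb] at h2
  have h3 := (restrictAdjunction (W i).ι).homEquiv_unit (X := T) (f := (restrictFunctor (W i).ι).map a)
  have h4 := (restrictAdjunction (W i).ι).homEquiv_unit (X := T) (f := (restrictFunctor (W i).ι).map b)
  apply ((restrictAdjunction (W i).ι).homEquiv T _).injective
  rw [h3, h4]
  exact h2

end Cover

section Family

open Scheme.Modules

variable [CompactSpace X] [QuasiSeparatedSpace X]

instance compactSpace_affineOpen (W : X.affineOpens) : CompactSpace (W.1 : Scheme.{u}) :=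
  isCompact_iff_compactSpace.1 W.2.isCompact

/-- the finite free module of rank `n` on an open subscheme. -/
noncomputable def freeN (W : X.Opens) (n : ℕ) : (W : Scheme.{u}).Modules :=
  SheafOfModules.free (R := (W : Scheme.{u}).ringCatSheaf) (ULift.{u} (Fin n))

theorem isQCoh_prod_push {m : ℕ} (W : Fin m → X.affineOpens)
    (N : ∀ i, ((W i).1 : Scheme.{u}).Modules) (hN : ∀ i, (N i).IsQuasicoherent) :
    isQCoh X (∏ᶜ fun i => (pushforward (W i).1.ι).obj (N i)) := by
  apply (isQCoh X).prop_product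
  intro i
  haveI := hN i
  exact Groth.Agent.Lib.QCoh.isQuasicoherent_pushforward_of_qcqs (W i).1.ι (N i)

/-- the ambient objects. -/
noncomputable def Gobj {m : ℕ} (W : Fin m → X.affineOpens)
    (N : ∀ i, ((W i).1 : Scheme.{u}).Modules) (hN : ∀ i, (N i).IsQuasicoherent) : QCoh X :=
  ⟨∏ᶜ fun i => (pushforward (W i).1.ι).obj (N i), isQCoh_prod_push X W N hN⟩

/-- the index type of the separating family. -/
def Idx : Type (u + 1) :=
  Σ (m : ℕ) (W : Fin m → X.affineOpens) (n : Fin m → ℕ),
    Σ (K : ∀ i, {K : Subobject (freeN X (W i).1 (n i)) // (cokernel K.arrow).IsQuasicoherent}),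
      Subobject (Gobj X W (fun i => cokernel (K i).1.arrow) (fun i => (K i).2))

instance small_Idx : Small.{u} (Idx X) := by
  unfold Idx
  infer_instance

/-- the separating family. -/
noncomputable def tobj (k : Idx X) : QCoh X := (k.2.2.2.2 : QCoh X)

theorem exists_epi_freeN (W : X.Opens) (M : (W : Scheme.{u}).Modules) (P : M.Presentation)
    [P.IsFinite] : ∃ (n : ℕ) (e : freeN X W n ⟶ M), Epi e := by
  haveI : Finite P.generators.I := inferInstance
  obtain ⟨n, ⟨eq⟩⟩ := Finite.exists_equiv_fin P.generators.I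
  let f : ULift.{u} (Fin n) → P.generators.I := fun i => eq.symm i.down
  have hf : Function.Bijective f := eq.symm.bijective.comp Equiv.ulift.bijective
  haveI h0 : IsIso (TypeCat.ofHom f) := (isIso_iff_bijective _).2 hf
  let φ : SheafOfModules.free (R := (W : Scheme.{u}).ringCatSheaf) (ULift.{u} (Fin n)) ⟶
      SheafOfModules.free (R := (W : Scheme.{u}).ringCatSheaf) P.generators.I :=
    SheafOfModules.freeFunctor (R := (W : Scheme.{u}).ringCatSheaf).map (TypeCat.ofHom f)
  haveI : IsIso φ := Functor.map_isIso _ _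
  have hepi : Epi (φ ≫ P.generators.π) := epi_comp _ _
  exact ⟨n, φ ≫ P.generators.π, hepi⟩

theorem exists_iso_family (M : QCoh X) [hM : M.obj.IsFinitePresentation] :
    ∃ k : Idx X, Nonempty (tobj X k ≅ M) := by
  obtain ⟨ι, U, hU, hP⟩ :=
    (Groth.Agent.Lib.QCoh.isFinitePresentation_iff_exists_isOpenCover M.obj).1 hM
  have h : ∀ x : X, ∃ (W : X.affineOpens), x ∈ W.1 ∧
      ∃ P : (M.obj.restrict W.1.ι).Presentation, P.IsFinite := by
    intro x
    have hx : x ∈ iSup U := by rw [hU.iSup_eq_top]; trivial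
    obtain ⟨i, hi⟩ := Opens.mem_iSup.1 hx
    obtain ⟨W, hW, hxW, hWi⟩ := Opens.isBasis_iff_nbhd.1 X.isBasis_affineOpens hi
    exact ⟨⟨W, hW⟩, hxW, Groth.Agent.Lib.QCoh.exists_presentation_of_le hWi M.obj (hP i)⟩
  choose W hxW hPW using h
  obtain ⟨t, ht⟩ := isCompact_univ.elim_finite_subcover (fun x : X => ((W x).1 : Set X))
    (fun x => (W x).1.isOpen) (fun x _ => Set.mem_iUnion.2 ⟨x, hxW x⟩)
  let m := t.card
  let en : Fin m ≃ t := t.equivFin.symm
  let Wf : Fin m → X.affineOpens := fun i => W (en i).1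
  have hWf : iSup (fun i => (Wf i).1) = ⊤ := by
    rw [eq_top_iff]
    intro x _
    have := ht (Set.mem_univ x)
    simp only [Set.mem_iUnion] at this
    obtain ⟨y, hy, hxy⟩ := this
    refine Opens.mem_iSup.2 ⟨en.symm ⟨y, hy⟩, ?_⟩
    show x ∈ (W (en (en.symm ⟨y, hy⟩)).1).1
    rw [Equiv.apply_symm_apply]
    exact hxy
  have hdata : ∀ i : Fin m, ∃ (n : ℕ) (K : Subobject (freeN X (Wf i).1 n)),
      Nonempty ((restrictFunctor (Wf i).1.ι).obj M.obj ≅ cokernel K.arrow) := by
    intro i
    obtain ⟨P, hPf⟩ := hPW (en i).1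
    obtain ⟨n, e, he⟩ := exists_epi_freeN X _ _ P
    obtain ⟨K, hK⟩ := Groth.Agent.Lib.Helper56.Hashimoto.exists_iso_cokernel e
    exact ⟨n, K, hK⟩
  choose n K hK using hdata
  haveI : M.obj.IsQuasicoherent := M.property
  have hq : ∀ i, (cokernel (K i).arrow).IsQuasicoherent := fun i =>
    Groth.Agent.Lib.QCoh.isQuasicoherent_of_iso (hK i).some inferInstance
  let G := Gobj X Wf (fun i => cokernel (K i).arrow) hq
  let θ : M.obj ⟶ G.obj := Pi.lift (fun i => (restrictAdjunction (Wf i).1.ι).unit.app M.obj ≫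
    (pushforward (Wf i).1.ι).map (hK i).some.hom)
  haveI hθ : Mono θ := mono_lift (fun i => (Wf i).1) hWf M.obj _ (fun i => (hK i).some)
  let θ' : M ⟶ G := ObjectProperty.homMk θ
  haveI : Mono θ' := by
    haveI : Mono ((isQCoh X).ι.map θ') := hθ
    exact (isQCoh X).ι.mono_of_mono_map inferInstance
  exact ⟨⟨m, Wf, n, ⟨fun i => ⟨K i, hq i⟩, Subobject.mk θ'⟩⟩, ⟨Subobject.underlyingIso θ'⟩⟩

theorem isSeparating : (ObjectProperty.ofObj (tobj X)).IsSeparating := by
  intro M N f g h
  haveI : M.obj.IsQuasicoherent := M.property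
  obtain ⟨I, _, _, _, D, c, ⟨hc⟩, hD⟩ :=
    Groth.Agent.Lib.QCoh.FiltColim.exists_filtered_colimit_fp M.obj
  apply ObjectProperty.hom_ext
  apply hc.hom_ext
  intro i
  haveI := hD i
  let Di : QCoh X := ⟨D.obj i, (inferInstance : (D.obj i).IsQuasicoherent)⟩
  haveI : Di.obj.IsFinitePresentation := hD i
  obtain ⟨k, ⟨e⟩⟩ := exists_iso_family X Di
  have h1 := h (tobj X k) ⟨k⟩ (e.hom ≫ ObjectProperty.homMk (c.app i))
  rw [Category.assoc, Category.assoc, cancel_epi] at h1
  exact congrArg (fun φ => φ.hom) h1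

end Family

end Groth.Agent.Lib.RelVA.QCohSAFT
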