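import Groth.Agent.Lib.RelVA.PullTwist
import Groth.Agent.Lib.Proj.Helper66_RelTwist
import Groth.Agent.Lib.Helper42.SymAlg2
import Groth.Agent.Lib.Ample.Restrict

/-!
# Relative very ampleness (`P(E)` / relative-Proj form) implies relative ampleness (lead)

ns `Groth.Agent.Lib.RelVA`.
* `isGenDegOne_of_isGrSymAlg` : the graded symmetric algebra of a quasi-coherent module is generated in degree one.
* `isAmple_restrict_of_isRelTwist` : `𝒮` generated in degree one, `(O1, lam)` an `O_P(1)` on a relative Proj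
  `p : P ⟶ Y` of `𝒮`, `i : X ⟶ P` an immersion with `i ≫ p = f` quasi-compact, `L ≅ i^* O1`: then for every
  affine open `U ⊆ Y` the restriction of `L` to `f⁻¹ U` is ample.
* `isRelAmple_of_isRelTwist`, `isRelAmple_of_isRelVeryAmple`.
-/

universe u
open CategoryTheory CategoryTheory.Limits AlgebraicGeometry TopologicalSpace Opposite

namespace Groth.Agent.Lib.RelVA

open Groth.Agent.Lib.Ample Groth.Agent.Lib.QCoh Scheme.Modules

theorem isGenDegOne_of_isGrSymAlg {S : Scheme.{u}} (E : S.Modules) (hE : Coh.IsQCoh E)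
    (𝒮 : RelProj.QCGrAlg S) (j : E ⟶ 𝒮.toModule) (hj : RelProj.IsGrSymAlg E 𝒮 j) :
    𝒮.IsGenDegOne := by
  have : E.IsQuasicoherent := hE
  intro U hU
  rw [eq_top_iff]
  rintro a -
  obtain ⟨w, rfl⟩ := (Groth.Agent.Lib.Helper42.SymAlg.bijective_tauU E hj.1 U hU).2 a
  induction w using SymmetricAlgebra.induction with
  | algebraMap r =>
    have h : Groth.Agent.Lib.Helper42.SymAlg.tauU E 𝒮.toQCAlg j U
        (algebraMap Γ(S, U) (SymmetricAlgebra Γ(S, U) Γ(E, U)) r) = (𝒮.str.app (op U)).hom r :=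
      Groth.Agent.Lib.Helper42.SymLoc.liftRing_algebraMap _ _ _ r
    rw [h]
    exact Subring.subset_closure (Or.inl (𝒮.str_mem U hU r))
  | ι x =>
    have h : Groth.Agent.Lib.Helper42.SymAlg.tauU E 𝒮.toQCAlg j U
        (SymmetricAlgebra.ι Γ(S, U) Γ(E, U) x) = (j.app U).hom x :=
      Groth.Agent.Lib.Helper42.SymLoc.liftRing_ι _ _ _ x
    rw [h]
    exact Subring.subset_closure (Or.inr (hj.2 U hU x))
  | mul a b ha hb =>
    rw [map_mul]
    exact Subring.mul_mem _ ha hb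
  | add a b ha hb =>
    rw [map_add]
    exact Subring.add_mem _ ha hb

theorem isAmple_restrict_of_isRelTwist {X Y P : Scheme.{u}} (f : X ⟶ Y) [QuasiCompact f]
    (𝒮 : RelProj.QCGrAlg Y) (hgen : 𝒮.IsGenDegOne) (p : P ⟶ Y)
    (chart : ∀ (U : Y.Opens) (hU : IsAffineOpen U),
      (((p ⁻¹ᵁ U : P.Opens) : Scheme.{u}) ≅ Proj (𝒮.deg U hU)))
    (O1 : P.Modules)
    (lam : ∀ (U : Y.Opens) (hU : IsAffineOpen U),
      O1 ⟶ (Scheme.Modules.pushforward (RelProj.emb p chart U hU)).obj (GrTwist.twist (𝒮.deg U hU) 1))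
    (hT : RelProj.IsRelTwist 𝒮 p chart 1 O1 lam) (i : X ⟶ P) [IsImmersion i] (hip : i ≫ p = f)
    (L : X.Modules) (e : L ≅ (Scheme.Modules.pullback i).obj O1) (U : Y.Opens) (hU : IsAffineOpen U) :
    CohB1.IsAmple (L.restrict (f ⁻¹ᵁ U).ι) := by
  have hcov := Groth.Agent.Lib.Proj.GrTw.iSup_basicOpen_eq_top_of_closure (𝒮.deg U hU) (hgen U hU)
  have hle : f ⁻¹ᵁ U ≤ i ⁻¹ᵁ (p ⁻¹ᵁ U) := by
    rw [← hip]
    exact le_rfl
  have hcpt : CompactSpace (f ⁻¹ᵁ U).toScheme :=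
    isCompact_iff_compactSpace.mp (QuasiCompact.isCompact_preimage (f := f) _ U.2 hU.isCompact)
  obtain ⟨r, hr⟩ : ∃ r : (f ⁻¹ᵁ U).toScheme ⟶ Proj (𝒮.deg U hU),
      r = i.resLE (p ⁻¹ᵁ U) (f ⁻¹ᵁ U) hle ≫ (chart U hU).hom := ⟨_, rfl⟩
  have hrimm : IsImmersion r := by
    rw [hr]
    infer_instance
  have hre : r ≫ RelProj.emb p chart U hU = (f ⁻¹ᵁ U).ι ≫ i := by
    rw [hr]
    unfold RelProj.emb
    rw [Category.assoc, Iso.hom_inv_id_assoc, Scheme.Hom.resLE_comp_ι]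
  have hamp := isAmple_pullback_twist_one hcov r
  refine isAmple_of_iso ?_ hamp
  exact ((restrictFunctor (f ⁻¹ᵁ U).ι).mapIso e ≪≫
    (restrictFunctorIsoPullback (f ⁻¹ᵁ U).ι).app _ ≪≫
    (pullbackComp (f ⁻¹ᵁ U).ι i).app O1 ≪≫
    (pullbackCongr hre.symm).app O1 ≪≫
    ((pullbackComp r (RelProj.emb p chart U hU)).app O1).symm ≪≫
    (Scheme.Modules.pullback r).mapIso
      (((restrictFunctorIsoPullback (RelProj.emb p chart U hU)).app O1).symm ≪≫
        Groth.Agent.Lib.Proj.RelTw.restrictEmbIso hT U hU)).symm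

theorem isRelAmple_of_isRelTwist {X Y P : Scheme.{u}} (f : X ⟶ Y) [QuasiCompact f]
    (𝒮 : RelProj.QCGrAlg Y) (hgen : 𝒮.IsGenDegOne) (p : P ⟶ Y)
    (chart : ∀ (U : Y.Opens) (hU : IsAffineOpen U),
      (((p ⁻¹ᵁ U : P.Opens) : Scheme.{u}) ≅ Proj (𝒮.deg U hU)))
    (O1 : P.Modules)
    (lam : ∀ (U : Y.Opens) (hU : IsAffineOpen U),
      O1 ⟶ (Scheme.Modules.pushforward (RelProj.emb p chart U hU)).obj (GrTwist.twist (𝒮.deg U hU) 1))
    (hT : RelProj.IsRelTwist 𝒮 p chart 1 O1 lam) (i : X ⟶ P) [IsImmersion i] (hip : i ≫ p = f)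
    (L : X.Modules) (e : L ≅ (Scheme.Modules.pullback i).obj O1) :
    RelAmple.IsRelAmple f L :=
  ⟨inferInstance, fun V => isAmple_restrict_of_isRelTwist f 𝒮 hgen p chart O1 lam hT i hip L e V.1 V.2⟩

theorem isRelAmple_of_isRelVeryAmple {X Y : Scheme.{u}} (f : X ⟶ Y) [QuasiCompact f] (L : X.Modules)
    (h : RelProj.IsRelVeryAmple f L) : RelAmple.IsRelAmple f L := by
  obtain ⟨E, hE, 𝒮, j, hj, P, p, chart, -, O1, lam, hT, i, hi, hip, ⟨e⟩⟩ := h
  exact isRelAmple_of_isRelTwist f 𝒮 (isGenDegOne_of_isGrSymAlg E hE 𝒮 j hj) p chart O1 lam hT i hip L e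

end Groth.Agent.Lib.RelVA
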