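import Groth.Agent.Lib.RelVA.Ample
import Groth.Agent.Lib.Ample.Helper50_Counit

/-!
# Relative very ampleness: the module is relatively generated (lead)

ns `Groth.Agent.Lib.RelVA`.
* `chartMor`, `chartMor_emb`, `restrictIso` : over an affine open `U ⊆ Y`, a `Y`-morphism `i : X ⟶ P` into a relative
  Proj induces `f⁻¹U ⟶ Proj 𝒮(U)`, and `L ≅ i^* O_P(n)` restricts to the pullback of `O(n)`.
* `epi_counit_of_isRelTwist` : `𝒮` generated in degree one, `L ≅ i^* O_P(1)` ⟹ `f^* f_* L ⟶ L` is an epimorphism.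
-/

universe u
open CategoryTheory CategoryTheory.Limits AlgebraicGeometry TopologicalSpace Opposite

namespace Groth.Agent.Lib.RelVA

open Groth.Agent.Lib.Ample Groth.Agent.Lib.QCoh Scheme.Modules

variable {X Y P : Scheme.{u}} {f : X ⟶ Y} {𝒮 : RelProj.QCGrAlg Y} {p : P ⟶ Y}
  {chart : ∀ (U : Y.Opens) (hU : IsAffineOpen U),
    (((p ⁻¹ᵁ U : P.Opens) : Scheme.{u}) ≅ Proj (𝒮.deg U hU))}

/-- the morphism `f⁻¹U ⟶ Proj 𝒮(U)` induced by a `Y`-morphism `i : X ⟶ P` -/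
noncomputable def chartMor (chart : ∀ (U : Y.Opens) (hU : IsAffineOpen U),
    (((p ⁻¹ᵁ U : P.Opens) : Scheme.{u}) ≅ Proj (𝒮.deg U hU))) (i : X ⟶ P) (hip : i ≫ p = f)
    (U : Y.Opens) (hU : IsAffineOpen U) : (f ⁻¹ᵁ U).toScheme ⟶ Proj (𝒮.deg U hU) :=
  i.resLE (p ⁻¹ᵁ U) (f ⁻¹ᵁ U) (by rw [← hip]; exact le_rfl) ≫ (chart U hU).hom

lemma chartMor_emb (i : X ⟶ P) (hip : i ≫ p = f) (U : Y.Opens) (hU : IsAffineOpen U) :
    chartMor chart i hip U hU ≫ RelProj.emb p chart U hU = (f ⁻¹ᵁ U).ι ≫ i := by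
  unfold chartMor RelProj.emb
  rw [Category.assoc, Iso.hom_inv_id_assoc, Scheme.Hom.resLE_comp_ι]

/-- `L ≅ i^* O_P(n)` restricted to `f⁻¹U` is the pullback of `O(n)` along `chartMor` -/
noncomputable def restrictIso {n : ℤ} {On : P.Modules}
    {lam : ∀ (U : Y.Opens) (hU : IsAffineOpen U),
      On ⟶ (Scheme.Modules.pushforward (RelProj.emb p chart U hU)).obj (GrTwist.twist (𝒮.deg U hU) n)}
    (hT : RelProj.IsRelTwist 𝒮 p chart n On lam) (i : X ⟶ P) (hip : i ≫ p = f)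
    {L : X.Modules} (e : L ≅ (Scheme.Modules.pullback i).obj On) (U : Y.Opens) (hU : IsAffineOpen U) :
    L.restrict (f ⁻¹ᵁ U).ι ≅
      (Scheme.Modules.pullback (chartMor chart i hip U hU)).obj (GrTwist.twist (𝒮.deg U hU) n) :=
  (restrictFunctor (f ⁻¹ᵁ U).ι).mapIso e ≪≫
    (restrictFunctorIsoPullback (f ⁻¹ᵁ U).ι).app _ ≪≫
    (pullbackComp (f ⁻¹ᵁ U).ι i).app On ≪≫
    (pullbackCongr (chartMor_emb i hip U hU).symm).app On ≪≫
    ((pullbackComp (chartMor chart i hip U hU) (RelProj.emb p chart U hU)).app On).symm ≪≫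
    (Scheme.Modules.pullback (chartMor chart i hip U hU)).mapIso
      (((restrictFunctorIsoPullback (RelProj.emb p chart U hU)).app On).symm ≪≫
        Groth.Agent.Lib.Proj.RelTw.restrictEmbIso hT U hU)

/-- a morphism `σ : O ⟶ M` which is bijective on sections over `W` exhibits `Γ(M, W)` as generated by the
restriction of the global section `σ(1)` -/
lemma exists_smul_eq_of_bijective {Z : Scheme.{u}} {M : Z.Modules} (σ : Coh.structureModule Z ⟶ M)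
    (W : Z.Opens) (hW : Function.Bijective (σ.app W)) (x : Γ(M, W)) :
    ∃ a : Γ(Z, W), x = a • (M.presheaf.map (homOfLE (le_top : W ≤ ⊤)).op).hom (secOf σ) := by
  obtain ⟨a, rfl⟩ := hW.2 x
  exact ⟨a, app_apply σ W a⟩

/-- index type for the basis used in `epi_counit_of_isRelTwist` -/
structure CIdx (chart : ∀ (U : Y.Opens) (hU : IsAffineOpen U),
    (((p ⁻¹ᵁ U : P.Opens) : Scheme.{u}) ≅ Proj (𝒮.deg U hU))) (i : X ⟶ P) (hip : i ≫ p = f) where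
  /-- affine open of the base -/
  U : Y.Opens
  /-- it is affine -/
  hU : IsAffineOpen U
  /-- a degree one element -/
  g : 𝒮.deg U hU 1
  /-- an open of `f⁻¹ U` -/
  W : (f ⁻¹ᵁ U).toScheme.Opens
  /-- contained in the preimage of `D₊(g)` -/
  hW : W ≤ (chartMor chart i hip U hU) ⁻¹ᵁ (Proj.basicOpen (𝒮.deg U hU) (g : 𝒮.presheaf.obj (op U)))

/-- the open of `X` attached to an index -/
noncomputable def CIdx.B {i : X ⟶ P} {hip : i ≫ p = f} (idx : CIdx chart i hip) : X.Opens :=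
  (f ⁻¹ᵁ idx.U).ι ''ᵁ idx.W

lemma CIdx.B_le {i : X ⟶ P} {hip : i ≫ p = f} (idx : CIdx chart i hip) : idx.B ≤ f ⁻¹ᵁ idx.U := by
  rintro _ ⟨y, -, rfl⟩
  exact y.2

lemma isBasis_range_B (hgen : 𝒮.IsGenDegOne) (i : X ⟶ P) (hip : i ≫ p = f) :
    Opens.IsBasis (Set.range (fun idx : CIdx chart i hip => idx.B)) := by
  rw [Opens.isBasis_iff_nbhd]
  intro O x hxO
  obtain ⟨U, hU0, hxU, -⟩ := Opens.isBasis_iff_nbhd.1 (Y.isBasis_affineOpens)
    (show f x ∈ (⊤ : Y.Opens) from trivial)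
  have hU : IsAffineOpen U := hU0
  have hcov := Groth.Agent.Lib.Proj.GrTw.iSup_basicOpen_eq_top_of_closure (𝒮.deg U hU) (hgen U hU)
  have h1 : chartMor chart i hip U hU ⟨x, hxU⟩ ∈ (⊤ : (Proj (𝒮.deg U hU)).Opens) := trivial
  rw [← hcov] at h1
  obtain ⟨g, hg⟩ := Opens.mem_iSup.1 h1
  refine ⟨_, ⟨⟨U, hU, g, (chartMor chart i hip U hU) ⁻¹ᵁ
    (Proj.basicOpen (𝒮.deg U hU) (g : 𝒮.presheaf.obj (op U))) ⊓ (f ⁻¹ᵁ U).ι ⁻¹ᵁ O, inf_le_left⟩, rfl⟩,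
    ?_, ?_⟩
  · exact ⟨⟨x, hxU⟩, ⟨hg, hxO⟩, rfl⟩
  · rintro _ ⟨y, hy, rfl⟩
    exact hy.2

lemma span_eq_top_of_CIdx (hgen : 𝒮.IsGenDegOne) {O1 : P.Modules}
    {lam : ∀ (U : Y.Opens) (hU : IsAffineOpen U),
      O1 ⟶ (Scheme.Modules.pushforward (RelProj.emb p chart U hU)).obj (GrTwist.twist (𝒮.deg U hU) 1)}
    (hT : RelProj.IsRelTwist 𝒮 p chart 1 O1 lam) (i : X ⟶ P) (hip : i ≫ p = f)
    {L : X.Modules} (e : L ≅ (Scheme.Modules.pullback i).obj O1) (idx : CIdx chart i hip) :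
    Submodule.span Γ(X, idx.B) (Set.range (fun m : Γ(L, f ⁻¹ᵁ idx.U) =>
      L.presheaf.map (homOfLE idx.B_le).op m)) = ⊤ := by
  obtain ⟨U, hU, g, W', hW'⟩ := idx
  have hcov := Groth.Agent.Lib.Proj.GrTw.iSup_basicOpen_eq_top_of_closure (𝒮.deg U hU) (hgen U hU)
  rw [eq_top_iff]
  rintro x -
  -- the section of `L|_{f⁻¹U}` attached to `g`
  obtain ⟨σ, hσ⟩ : ∃ σ : Coh.structureModule (f ⁻¹ᵁ U).toScheme ⟶ L.restrict (f ⁻¹ᵁ U).ι,
      σ = pullHom (chartMor chart i hip U hU) (Groth.Agent.Lib.GrTwA.sectHom g) ≫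
        (restrictIso hT i hip e U hU).symm.hom := ⟨_, rfl⟩
  have hN : PicF.IsInvertible (GrTwist.twist (𝒮.deg U hU) ((1 : ℕ) : ℤ)) := by
    simpa using Groth.Agent.Lib.Proj.GrTw.isInvertible_twist hcov 1
  have hgl : CohB1.genLocus (L.restrict (f ⁻¹ᵁ U).ι) σ =
      (chartMor chart i hip U hU) ⁻¹ᵁ
        (Proj.basicOpen (𝒮.deg U hU) (g : 𝒮.presheaf.obj (op U))) := by
    rw [hσ, genLocus_comp_iso]
    have h2 := genLocus_pullHom (chartMor chart i hip U hU) hN (Groth.Agent.Lib.GrTwA.sectHom g)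
    rw [Groth.Agent.Lib.GrTwA.genLocus_sectHom g
      (Groth.Agent.Lib.GrTwA.hasUnitFrac_of_cover hcov _)] at h2
    simpa using h2
  have hbij : Function.Bijective (σ.app W') :=
    (le_genLocus_iff' _ σ W').1 (hgl ▸ hW') W' le_rfl
  obtain ⟨a, ha⟩ := exists_smul_eq_of_bijective σ W' hbij x
  -- transport to `L`
  have hle : f ⁻¹ᵁ U ≤ (f ⁻¹ᵁ U).ι ''ᵁ ⊤ := by
    intro z hz
    exact ⟨⟨z, hz⟩, trivial, rfl⟩
  have hB : (f ⁻¹ᵁ U).ι ''ᵁ W' ≤ f ⁻¹ᵁ U := by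
    rintro _ ⟨y, -, rfl⟩
    exact y.2
  obtain ⟨s₀, hs₀⟩ : ∃ s₀ : Γ(L, (f ⁻¹ᵁ U).ι ''ᵁ ⊤),
      s₀ = (L.restrictAppIso (f ⁻¹ᵁ U).ι ⊤).hom (secOf σ) := ⟨_, rfl⟩
  obtain ⟨t, ht⟩ : ∃ t : Γ(L, f ⁻¹ᵁ U), t = L.presheaf.map (homOfLE hle).op s₀ := ⟨_, rfl⟩
  have h2 : (homOfLE hle).op ≫ (homOfLE hB).op =
      ((f ⁻¹ᵁ U).ι.opensFunctor.map (homOfLE (le_top : W' ≤ ⊤))).op := Subsingleton.elim _ _
  have h1 : L.presheaf.map (homOfLE hB).op t =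
      L.presheaf.map ((f ⁻¹ᵁ U).ι.opensFunctor.map (homOfLE (le_top : W' ≤ ⊤))).op s₀ := by
    rw [ht, ← ConcreteCategory.comp_apply, ← Functor.map_comp, h2]
  have hmem : x = ((f ⁻¹ᵁ U).ι.appIso W').inv.hom a • L.presheaf.map (homOfLE hB).op t := by
    rw [h1, hs₀]
    exact ha
  rw [hmem]
  exact Submodule.smul_mem _ _ (Submodule.subset_span ⟨t, rfl⟩)

theorem epi_counit_of_isRelTwist (f : X ⟶ Y) (𝒮 : RelProj.QCGrAlg Y) (hgen : 𝒮.IsGenDegOne) (p : P ⟶ Y)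
    (chart : ∀ (U : Y.Opens) (hU : IsAffineOpen U),
      (((p ⁻¹ᵁ U : P.Opens) : Scheme.{u}) ≅ Proj (𝒮.deg U hU)))
    (O1 : P.Modules)
    (lam : ∀ (U : Y.Opens) (hU : IsAffineOpen U),
      O1 ⟶ (Scheme.Modules.pushforward (RelProj.emb p chart U hU)).obj (GrTwist.twist (𝒮.deg U hU) 1))
    (hT : RelProj.IsRelTwist 𝒮 p chart 1 O1 lam) (i : X ⟶ P) (hip : i ≫ p = f)
    (L : X.Modules) (e : L ≅ (Scheme.Modules.pullback i).obj O1) :
    Epi ((pullbackPushforwardAdjunction f).counit.app L) :=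
  Groth.Agent.Lib.Ample.Counit.epi_counit_of_isBasis f L (fun idx : CIdx chart i hip => idx.B)
    (isBasis_range_B hgen i hip) (fun idx => idx.U) (fun idx => idx.B_le)
    (fun idx => span_eq_top_of_CIdx hgen hT i hip e idx)

end Groth.Agent.Lib.RelVA
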