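import Groth.Agent.Lib.Helper61.QCohSections
import Groth.Agent.Lib.QCoh.Helper50_ModBasis
import Groth.Agent.Lib.QCoh.Helper50_PullbackSections
import Groth.Prelude.Def_RelSpec2

/-!
# Morphisms of quasi-coherent modules on a scheme affine over a base (lead)

EGA II 1.4.2: for `f : X ⟶ S` affine and `F`, `G` quasi-coherent on `X`, morphisms `F ⟶ G` are
the same as `f_* O_X`-linear morphisms `f_* F ⟶ f_* G`.
ns `Groth.Agent.Lib.RelVA.DirImgHom`.
-/

set_option autoImplicit false
universe u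
open CategoryTheory AlgebraicGeometry Opposite TopologicalSpace

namespace Groth.Agent.Lib.RelVA.DirImgHom

open Groth.Agent.Lib.Helper61.QCohSections Groth.Agent.Lib.Helper22 Groth.Agent.Lib.QCoh

variable {X : Scheme.{u}} (F G : X.Modules)

section local_

variable {W : X.Opens} (hW : IsAffineOpen W) (g : Γ(X, W))

lemma isUnit_res_basicOpen {V : X.Opens} (hV : V ≤ X.basicOpen g) :
    IsUnit (X.presheaf.map (homOfLE (hV.trans (X.basicOpen_le g))).op g) := by
  have h1 : IsUnit (X.presheaf.map (homOfLE (X.basicOpen_le g)).op g) :=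
    RingedSpace.isUnit_res_basicOpen _ g
  have h2 : X.presheaf.map (homOfLE (hV.trans (X.basicOpen_le g))).op g =
      X.presheaf.map (homOfLE hV).op (X.presheaf.map (homOfLE (X.basicOpen_le g)).op g) := by
    rw [← ConcreteCategory.comp_apply, ← Functor.map_comp]
    rfl
  rw [h2]
  exact h1.map _

include hW in
/-- two additive maps out of `Γ(F, D(g))`, semilinear over the restriction of functions, which
agree on the restrictions of sections over `W`, are equal -/
lemma eq_of_eq_on_res [F.IsQuasicoherent] {V : X.Opens} (hV : V ≤ X.basicOpen g)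
    (a b : Γ(F, X.basicOpen g) →+ Γ(G, V))
    (ha : ∀ (r : Γ(X, X.basicOpen g)) (y : Γ(F, X.basicOpen g)),
      a (r • y) = X.presheaf.map (homOfLE hV).op r • a y)
    (hb : ∀ (r : Γ(X, X.basicOpen g)) (y : Γ(F, X.basicOpen g)),
      b (r • y) = X.presheaf.map (homOfLE hV).op r • b y)
    (h : ∀ m : Γ(F, W), a (F.presheaf.map (homOfLE (X.basicOpen_le g)).op m) =
      b (F.presheaf.map (homOfLE (X.basicOpen_le g)).op m)) : a = b := by
  ext y
  obtain ⟨n, m, hm⟩ := exists_pow_smul_eq_map_of_isAffineOpen F hW g y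
  have h1 := h m
  rw [hm, ha, hb] at h1
  have hu : IsUnit (X.presheaf.map (homOfLE hV).op
      ((X.presheaf.map (homOfLE (X.basicOpen_le g)).op g) ^ n)) :=
    ((RingedSpace.isUnit_res_basicOpen _ g).pow n).map _
  obtain ⟨u, hu⟩ := hu
  rw [← hu] at h1
  have h2 := congrArg (fun z => (↑u⁻¹ : Γ(X, V)) • z) h1
  simpa [smul_smul] using h2

include hW in
/-- a `Γ(X, W)`-linear map `Γ(F, W) → Γ(G, W)` extends to a `Γ(X, D(g))`-linear map
`Γ(F, D(g)) → Γ(G, D(g))` compatible with restrictions -/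
theorem exists_ext_basicOpen [F.IsQuasicoherent] (θ : Γ(F, W) →+ Γ(G, W))
    (hθ : ∀ (r : Γ(X, W)) (m : Γ(F, W)), θ (r • m) = r • θ m) :
    ∃ e : Γ(F, X.basicOpen g) →+ Γ(G, X.basicOpen g),
      (∀ m : Γ(F, W), e (F.presheaf.map (homOfLE (X.basicOpen_le g)).op m) =
        G.presheaf.map (homOfLE (X.basicOpen_le g)).op (θ m)) ∧
      ∀ (r : Γ(X, X.basicOpen g)) (y : Γ(F, X.basicOpen g)), e (r • y) = r • e y := by
  letI := resModule F (X.basicOpen_le g)
  letI := resModule G (X.basicOpen_le g)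
  haveI := isLocalizedModule_res_basicOpen F hW g
  obtain ⟨θ', hθ'⟩ : ∃ θ' : Γ(F, W) →ₗ[Γ(X, W)] Γ(G, W), ∀ m, θ' m = θ m :=
    ⟨{ toFun := θ, map_add' := map_add θ, map_smul' := hθ }, fun _ => rfl⟩
  have hunit : ∀ x : Submonoid.powers g,
      IsUnit ((algebraMap Γ(X, W) (Module.End Γ(X, W) Γ(G, X.basicOpen g))) x) := by
    rintro ⟨_, n, rfl⟩
    have hu : IsUnit (X.presheaf.map (homOfLE (X.basicOpen_le g)).op (g ^ n)) := by
      rw [map_pow]
      exact (RingedSpace.isUnit_res_basicOpen _ g).pow n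
    obtain ⟨u, hu⟩ := hu
    rw [Module.End.isUnit_iff]
    constructor
    · intro a b hab
      have h1 : (g ^ n) • a = (g ^ n) • b := hab
      rw [resModule_smul, resModule_smul, ← hu] at h1
      have h2 := congrArg (fun z => (↑u⁻¹ : Γ(X, X.basicOpen g)) • z) h1
      simpa [smul_smul] using h2
    · intro b
      refine ⟨(↑u⁻¹ : Γ(X, X.basicOpen g)) • b, ?_⟩
      show (g ^ n) • ((↑u⁻¹ : Γ(X, X.basicOpen g)) • b) = b
      rw [resModule_smul, ← hu, smul_smul, Units.mul_inv, one_smul]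
  obtain ⟨e₀, he₀⟩ : ∃ e₀ : Γ(F, X.basicOpen g) →ₗ[Γ(X, W)] Γ(G, X.basicOpen g),
      e₀ = IsLocalizedModule.lift (Submonoid.powers g) (resLinear F (X.basicOpen_le g))
        ((resLinear G (X.basicOpen_le g)).comp θ') hunit := ⟨_, rfl⟩
  have hres : ∀ m : Γ(F, W), e₀ (F.presheaf.map (homOfLE (X.basicOpen_le g)).op m) =
      G.presheaf.map (homOfLE (X.basicOpen_le g)).op (θ m) := by
    intro m
    have := IsLocalizedModule.lift_apply (Submonoid.powers g) (resLinear F (X.basicOpen_le g))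
      ((resLinear G (X.basicOpen_le g)).comp θ') hunit m
    rw [← he₀] at this
    rw [resLinear_apply] at this
    rw [this, LinearMap.comp_apply, resLinear_apply, hθ']
  have hlinW : ∀ (a : Γ(X, W)) (y : Γ(F, X.basicOpen g)),
      e₀ (X.presheaf.map (homOfLE (X.basicOpen_le g)).op a • y) =
        X.presheaf.map (homOfLE (X.basicOpen_le g)).op a • e₀ y := by
    intro a y
    have := e₀.map_smul a y
    rwa [resModule_smul, resModule_smul] at this
  refine ⟨e₀.toAddMonoidHom, hres, ?_⟩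
  intro r y
  show e₀ (r • y) = r • e₀ y
  haveI := hW.isLocalization_basicOpen g
  obtain ⟨⟨a, ⟨_, n, rfl⟩⟩, har⟩ := IsLocalization.surj (Submonoid.powers g) r
  have har' : r * X.presheaf.map (homOfLE (X.basicOpen_le g)).op (g ^ n) =
      X.presheaf.map (homOfLE (X.basicOpen_le g)).op a := har
  have hu : IsUnit (X.presheaf.map (homOfLE (X.basicOpen_le g)).op (g ^ n)) := by
    rw [map_pow]
    exact (RingedSpace.isUnit_res_basicOpen _ g).pow n
  obtain ⟨u, hu⟩ := hu
  have h1 : e₀ ((↑u : Γ(X, X.basicOpen g)) • (r • y)) = (↑u : Γ(X, X.basicOpen g)) • (r • e₀ y) := by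
    rw [smul_smul, smul_smul, mul_comm, hu, har', hlinW]
  rw [hu, hlinW, ← hu] at h1
  have h2 := congrArg (fun z => (↑u⁻¹ : Γ(X, X.basicOpen g)) • z) h1
  simpa [smul_smul] using h2

end local_

section global

variable {S : Scheme.{u}} (f : X ⟶ S)

/-- a compatible family of linear maps on sections over the preimages of the opens of the base
(the data of an `f_* O_X`-linear morphism `f_* F ⟶ f_* G`) -/
structure PushData where
  /-- the maps on sections -/
  t : ∀ U : S.Opens, Γ(F, f ⁻¹ᵁ U) →+ Γ(G, f ⁻¹ᵁ U)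
  lin : ∀ (U : S.Opens) (r : Γ(X, f ⁻¹ᵁ U)) (m : Γ(F, f ⁻¹ᵁ U)), t U (r • m) = r • t U m
  nat : ∀ (U V : S.Opens) (h : V ≤ U) (m : Γ(F, f ⁻¹ᵁ U)),
    t V (F.presheaf.map (homOfLE (f.preimage_mono h)).op m) =
      G.presheaf.map (homOfLE (f.preimage_mono h)).op (t U m)

/-- index type of the basis: affine opens of the base and functions on their preimages -/
abbrev Idx : Type u := Σ U : S.affineOpens, Γ(X, f ⁻¹ᵁ U.1)

/-- the basis of `X` by basic opens of preimages of affine opens of the base -/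
abbrev B (i : Idx f) : X.Opens := X.basicOpen i.2

lemma B_le (i : Idx f) : B f i ≤ f ⁻¹ᵁ i.1.1 := X.basicOpen_le i.2

variable [IsAffineHom f]

lemma exists_idx (O : X.Opens) (U : S.Opens) (x : X) (hxO : x ∈ O) (hxU : f.base x ∈ U) :
    ∃ k : Idx f, k.1.1 ≤ U ∧ x ∈ B f k ∧ B f k ≤ O := by
  obtain ⟨U'', hU''aff, hfx, hle⟩ := Opens.isBasis_iff_nbhd.mp S.isBasis_affineOpens hxU
  have hW : IsAffineOpen (f ⁻¹ᵁ U'') := IsAffineOpen.preimage hU''aff f
  obtain ⟨g, hgO, hxg⟩ := hW.exists_basicOpen_le (V := O) ⟨x, hxO⟩ hfx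
  exact ⟨⟨⟨U'', hU''aff⟩, g⟩, hle, hxg, hgO⟩

lemma isBasis_B : Opens.IsBasis (Set.range (B f)) := by
  rw [Opens.isBasis_iff_nbhd]
  intro O x hxO
  obtain ⟨k, -, hxk, hkO⟩ := exists_idx f O ⊤ x hxO trivial
  exact ⟨B f k, ⟨k, rfl⟩, hxk, hkO⟩

/-- sections over an open lying over `U` are determined by their restrictions to the members of
the basis lying over `U` -/
lemma section_ext_over (N : X.Modules) (U : S.Opens) {O : X.Opens} (hO : O ≤ f ⁻¹ᵁ U)
    (s t : Γ(N, O))
    (h : ∀ (k : Idx f) (_ : k.1.1 ≤ U) (hk : B f k ≤ O),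
      N.presheaf.map (homOfLE hk).op s = N.presheaf.map (homOfLE hk).op t) : s = t := by
  let κ := {k : Idx f // k.1.1 ≤ U ∧ B f k ≤ O}
  refine TopCat.Sheaf.eq_of_locally_eq' (⟨N.presheaf, N.isSheaf⟩ : TopCat.Sheaf Ab X.carrier)
    (fun k : κ => B f k.1) O (fun k => homOfLE k.2.2) ?_ s t (fun k => h k.1 k.2.1 k.2.2)
  intro x hx
  obtain ⟨k, hkU, hxk, hkO⟩ := exists_idx f O U x hx (hO hx)
  exact TopologicalSpace.Opens.mem_iSup.mpr ⟨⟨k, hkU, hkO⟩, hxk⟩

variable [F.IsQuasicoherent]
variable {F G f}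

/-- the local extensions -/
noncomputable def fi (d : PushData F G f) (i : Idx f) : Γ(F, B f i) →+ Γ(G, B f i) :=
  Classical.choose (exists_ext_basicOpen F G (IsAffineOpen.preimage i.1.2 f) i.2 (d.t i.1.1)
    (d.lin i.1.1))

lemma fi_res (d : PushData F G f) (i : Idx f) (m : Γ(F, f ⁻¹ᵁ i.1.1)) :
    fi d i (F.presheaf.map (homOfLE (B_le f i)).op m) =
      G.presheaf.map (homOfLE (B_le f i)).op (d.t i.1.1 m) :=
  (Classical.choose_spec (exists_ext_basicOpen F G (IsAffineOpen.preimage i.1.2 f) i.2 (d.t i.1.1)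
    (d.lin i.1.1))).1 m

lemma fi_lin (d : PushData F G f) (i : Idx f) (r : Γ(X, B f i)) (y : Γ(F, B f i)) :
    fi d i (r • y) = r • fi d i y :=
  (Classical.choose_spec (exists_ext_basicOpen F G (IsAffineOpen.preimage i.1.2 f) i.2 (d.t i.1.1)
    (d.lin i.1.1))).2 r y

lemma fi_res' (d : PushData F G f) (k : Idx f) (U : S.Opens) (hU : k.1.1 ≤ U)
    (m : Γ(F, f ⁻¹ᵁ U)) :
    fi d k (F.presheaf.map (homOfLE ((B_le f k).trans (f.preimage_mono hU))).op m) =
      G.presheaf.map (homOfLE ((B_le f k).trans (f.preimage_mono hU))).op (d.t U m) := by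
  have h1 := map_map_apply F (homOfLE (B_le f k)) (homOfLE (f.preimage_mono hU))
    (homOfLE ((B_le f k).trans (f.preimage_mono hU))) m
  have h2 := map_map_apply G (homOfLE (B_le f k)) (homOfLE (f.preimage_mono hU))
    (homOfLE ((B_le f k).trans (f.preimage_mono hU))) (d.t U m)
  rw [← h1, fi_res, d.nat U k.1.1 hU m, h2]

lemma fi_nat_of_le (d : PushData F G f) (i k : Idx f) (hU : k.1.1 ≤ i.1.1) (hB : B f k ≤ B f i)
    (y : Γ(F, B f i)) :
    G.presheaf.map (homOfLE hB).op (fi d i y) = fi d k (F.presheaf.map (homOfLE hB).op y) := by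
  have key := eq_of_eq_on_res F G (IsAffineOpen.preimage i.1.2 f) i.2 hB
    ((G.presheaf.map (homOfLE hB).op).hom.comp (fi d i))
    ((fi d k).comp (F.presheaf.map (homOfLE hB).op).hom) ?_ ?_ ?_
  · exact DFunLike.congr_fun key y
  · intro r y
    show G.presheaf.map (homOfLE hB).op (fi d i (r • y)) = _
    rw [fi_lin, Scheme.Modules.map_smul]
    rfl
  · intro r y
    show fi d k (F.presheaf.map (homOfLE hB).op (r • y)) = _
    rw [Scheme.Modules.map_smul, fi_lin]
    rfl
  · intro m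
    show G.presheaf.map (homOfLE hB).op (fi d i (F.presheaf.map (homOfLE (B_le f i)).op m)) =
      fi d k (F.presheaf.map (homOfLE hB).op (F.presheaf.map (homOfLE (B_le f i)).op m))
    rw [fi_res, map_map_apply G (homOfLE hB) (homOfLE (B_le f i))
      (homOfLE ((B_le f k).trans (f.preimage_mono hU))),
      map_map_apply F (homOfLE hB) (homOfLE (B_le f i))
      (homOfLE ((B_le f k).trans (f.preimage_mono hU))), fi_res' d k i.1.1 hU m]

lemma fi_nat [G.IsQuasicoherent] (d : PushData F G f) (i j : Idx f) (hB : B f j ≤ B f i)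
    (y : Γ(F, B f i)) :
    G.presheaf.map (homOfLE hB).op (fi d i y) = fi d j (F.presheaf.map (homOfLE hB).op y) := by
  refine section_ext_over f G (i.1.1 ⊓ j.1.1) (le_inf (hB.trans (B_le f i)) (B_le f j)) _ _ ?_
  intro k hkU hk
  rw [map_map_apply G (homOfLE hk) (homOfLE hB) (homOfLE (hk.trans hB)),
    fi_nat_of_le d i k (hkU.trans inf_le_left) (hk.trans hB),
    fi_nat_of_le d j k (hkU.trans inf_le_right) hk,
    map_map_apply F (homOfLE hk) (homOfLE hB) (homOfLE (hk.trans hB))]

/-- the basis data attached to a compatible family -/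
noncomputable def basisData [G.IsQuasicoherent] (d : PushData F G f) :
    ModBasis.BasisData (B f) F G where
  f := fi d
  nat i j h x := fi_nat d i j h x
  lin i r x := fi_lin d i r x

/-- the morphism of modules attached to a compatible family -/
noncomputable def homOfPushData [G.IsQuasicoherent] (d : PushData F G f) : F ⟶ G :=
  (basisData d).hom (isBasis_B f)

theorem homOfPushData_app [G.IsQuasicoherent] (d : PushData F G f) (U : S.Opens)
    (m : Γ(F, f ⁻¹ᵁ U)) : (homOfPushData d).app (f ⁻¹ᵁ U) m = d.t U m := by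
  refine section_ext_over f G U le_rfl _ _ ?_
  intro k hkU hk
  rw [← app_naturality_apply (homOfPushData d) (homOfLE hk) m]
  have h1 : (homOfPushData d).app (B f k) (F.presheaf.map (homOfLE hk).op m) =
      fi d k (F.presheaf.map (homOfLE hk).op m) :=
    ModBasis.BasisData.hom_app (isBasis_B f) (basisData d) k _
  rw [h1]
  exact fi_res' d k U hkU m

/-- a morphism of quasi-coherent modules on `X` affine over `S` is determined by its effect on
sections over the preimages of opens of the base -/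
theorem hom_ext_of_preimage (φ ψ : F ⟶ G)
    (h : ∀ (U : S.Opens) (m : Γ(F, f ⁻¹ᵁ U)), φ.app (f ⁻¹ᵁ U) m = ψ.app (f ⁻¹ᵁ U) m) : φ = ψ := by
  refine ModBasis.hom_ext_basis (B f) (isBasis_B f) (fun i y => ?_)
  have key := eq_of_eq_on_res F G (IsAffineOpen.preimage i.1.2 f) i.2 (le_refl (B f i))
    (φ.app (B f i)).hom (ψ.app (B f i)).hom ?_ ?_ ?_
  · exact DFunLike.congr_fun key y
  · intro r y
    show φ.app (B f i) (r • y) = _
    rw [Scheme.Modules.Hom.app_smul]
    congr 1
    show r = X.presheaf.map (𝟙 _) r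
    rw [X.presheaf.map_id]
    rfl
  · intro r y
    show ψ.app (B f i) (r • y) = _
    rw [Scheme.Modules.Hom.app_smul]
    congr 1
    show r = X.presheaf.map (𝟙 _) r
    rw [X.presheaf.map_id]
    rfl
  · intro m
    show φ.app (B f i) (F.presheaf.map (homOfLE (B_le f i)).op m) =
      ψ.app (B f i) (F.presheaf.map (homOfLE (B_le f i)).op m)
    rw [app_naturality_apply, app_naturality_apply, h]

end global

end Groth.Agent.Lib.RelVA.DirImgHom
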