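import Groth.Agent.Lib.RelVA.FreeSections
import Groth.Agent.Lib.RelVA.DirImgHom
import Groth.Agent.Lib.QCoh.AffineOpen

/-!
# Finite type for the direct image over `f_* O_X` (lead)

EGA II 1.4.3-1.4.5 (finite type part): `f : X ⟶ S` affine, `F` quasi-coherent on `X`.  Then `F` is of
finite type iff `f_* F` is of finite type over the sheaf of rings `f_* O_X`.
ns `Groth.Agent.Lib.RelVA.DirImgFT`.

* `mem_span_res` : on an affine open `V` with `Γ(F, V)` generated by `s i`, every section over
  `D(g)` restricted to `W' ≤ D(g)` is a combination of the `s i`.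
* `sectOver` : the section of `(f_* F).over U` attached to an element of `Γ(F, f⁻¹U)`.
* `fg_over_of_finite`, `finite_of_fg_over`, `isFiniteType_dirImg_iff`.
-/

set_option autoImplicit false
set_option linter.unusedSectionVars false
set_option linter.style.haveILetI false
universe u
open CategoryTheory CategoryTheory.Limits AlgebraicGeometry Opposite TopologicalSpace

namespace Groth.Agent.Lib.RelVA.DirImgFT

open Groth.Agent.Lib.Helper61.QCohSections Groth.Agent.Lib.Helper22 Groth.Agent.Lib.QCoh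
open Groth.Agent.Lib.Helper19.ModFG Groth.Agent.Lib.RelVA.FreeSections
open Groth.Agent.Lib.RelVA.DirImgHom

section local_

variable {X : Scheme.{u}} (F : X.Modules) [F.IsQuasicoherent]

/-- on an affine open `V` over which `F` is generated by the `s i`, sections over `D(g)` are,
after restriction to any `W' ≤ D(g)`, combinations of the `s i` -/
theorem mem_span_res {V : X.Opens} (hV : IsAffineOpen V) (g : Γ(X, V)) {ι : Type*} [Fintype ι]
    (s : ι → Γ(F, V)) (hs : Submodule.span Γ(X, V) (Set.range s) = ⊤)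
    {W' : X.Opens} (hW' : W' ≤ X.basicOpen g) (hW'V : W' ≤ V) (m : Γ(F, X.basicOpen g)) :
    ∃ c : ι → Γ(X, W'), F.presheaf.map (homOfLE hW').op m =
      ∑ i, c i • F.presheaf.map (homOfLE hW'V).op (s i) := by
  obtain ⟨k, x, hx⟩ := exists_pow_smul_eq_map_of_isAffineOpen F hV g m
  have hxs : x ∈ Submodule.span Γ(X, V) (Set.range s) := by rw [hs]; trivial
  obtain ⟨a, ha⟩ := (Submodule.mem_span_range_iff_exists_fun _).1 hxs
  have hu : IsUnit (X.presheaf.map (homOfLE hW'V).op g) := by
    have := isUnit_res_basicOpen (X := X) g hW'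
    exact this
  obtain ⟨u, hu⟩ := hu
  refine ⟨fun i => (↑(u⁻¹ ^ k) : Γ(X, W')) * X.presheaf.map (homOfLE hW'V).op (a i), ?_⟩
  have h1 : F.presheaf.map (homOfLE hW'V).op x =
      (X.presheaf.map (homOfLE hW'V).op g) ^ k • F.presheaf.map (homOfLE hW').op m := by
    rw [← map_map_apply F (homOfLE hW') (homOfLE (X.basicOpen_le g)) (homOfLE hW'V) x, hx,
      Scheme.Modules.map_smul, map_pow]
    congr 2
    rw [← ConcreteCategory.comp_apply, ← Functor.map_comp]
    rfl
  have h2 : F.presheaf.map (homOfLE hW'V).op x =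
      ∑ i, X.presheaf.map (homOfLE hW'V).op (a i) • F.presheaf.map (homOfLE hW'V).op (s i) := by
    rw [← ha, map_sum]
    refine Finset.sum_congr rfl (fun i _ => ?_)
    rw [Scheme.Modules.map_smul]
  rw [h2, ← hu] at h1
  have h3 := congrArg (fun z => (↑(u⁻¹ ^ k) : Γ(X, W')) • z) h1
  simp only [Finset.smul_sum, smul_smul] at h3
  rw [← Units.val_pow_eq_pow_val, ← Units.val_mul, ← mul_pow, inv_mul_cancel, one_pow,
    Units.val_one, one_smul] at h3
  exact h3.symm

/-- the sections over an affine open are generated by `s` as soon as they are so locally -/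
theorem span_eq_top_of_locally {V : X.Opens} (hV : IsAffineOpen V) {ι : Type*} [Fintype ι]
    (s : ι → Γ(F, V)) (t : Γ(F, V)) (Gs : Set Γ(X, V))
    (hG : Ideal.span Gs = ⊤)
    (h : ∀ g ∈ Gs, ∃ c : ι → Γ(X, X.basicOpen g),
      F.presheaf.map (homOfLE (X.basicOpen_le g)).op t =
        ∑ i, c i • F.presheaf.map (homOfLE (X.basicOpen_le g)).op (s i)) :
    t ∈ Submodule.span Γ(X, V) (Set.range s) := by
  set N := Submodule.span Γ(X, V) (Set.range s) with hN
  -- the ideal of functions multiplying `t` into `N`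
  let 𝔞 : Ideal Γ(X, V) :=
    { carrier := {b | b • t ∈ N}
      add_mem' := fun {a b} ha hb => by
        change (a + b) • t ∈ N
        rw [add_smul]; exact N.add_mem ha hb
      zero_mem' := by change (0 : Γ(X, V)) • t ∈ N; rw [zero_smul]; exact N.zero_mem
      smul_mem' := fun c b hb => by
        change (c • b) • t ∈ N
        rw [smul_eq_mul, mul_smul]; exact N.smul_mem c hb }
  have key : ∀ g ∈ Gs, ∃ n : ℕ, g ^ n ∈ 𝔞 := by
    intro g hg
    obtain ⟨c, hc⟩ := h g hg
    haveI := hV.isLocalization_basicOpen g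
    obtain ⟨⟨_, k, rfl⟩, hk⟩ :=
      IsLocalization.exist_integer_multiples_of_finite (Submonoid.powers g) c
    choose b hb using hk
    have hb' : ∀ i, X.presheaf.map (homOfLE (X.basicOpen_le g)).op (b i) =
        X.presheaf.map (homOfLE (X.basicOpen_le g)).op (g ^ k) * c i := fun i => hb i
    have h0 : F.presheaf.map (homOfLE (X.basicOpen_le g)).op (g ^ k • t - ∑ i, b i • s i) = 0 := by
      rw [map_sub, Scheme.Modules.map_smul, hc, map_sum, Finset.smul_sum, sub_eq_zero]
      refine Finset.sum_congr rfl (fun i _ => ?_)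
      rw [Scheme.Modules.map_smul, hb', smul_smul]
    obtain ⟨l, hl⟩ := exists_pow_smul_eq_zero_of_isAffineOpen F hV g _ h0
    refine ⟨l + k, ?_⟩
    change g ^ (l + k) • t ∈ N
    rw [smul_sub, sub_eq_zero, smul_smul, ← pow_add] at hl
    rw [hl]
    refine N.smul_mem _ (N.sum_mem (fun i _ => N.smul_mem _ ?_))
    exact Submodule.subset_span ⟨i, rfl⟩
  have h1 : (1 : Γ(X, V)) ∈ 𝔞 := by
    have htop : 𝔞 = ⊤ := by
      by_contra hne
      obtain ⟨𝔪, h𝔪, hle⟩ := Ideal.exists_le_maximal 𝔞 hne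
      have : Ideal.span Gs ≤ 𝔪 := by
        rw [Ideal.span_le]
        intro g hg
        obtain ⟨n, hn⟩ := key g hg
        exact h𝔪.isPrime.mem_of_pow_mem n (hle hn)
      rw [hG] at this
      exact h𝔪.ne_top (top_le_iff.1 this)
    rw [htop]; trivial
  have : (1 : Γ(X, V)) • t ∈ N := h1
  rwa [one_smul] at this

end local_

section global

variable {X S : Scheme.{u}} (f : X ⟶ S) [IsAffineHom f] (F : X.Modules)

/-- `f_* F` as a module over `f_* O_X` -/
noncomputable abbrev M : AMod (RelSpec.QCAlg.directImage f) := (AMod.dirImg f).obj F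

/-- the section of `(f_* F).over U` attached to an element of `Γ(F, f⁻¹U)` -/
noncomputable def sectOver (U : S.Opens) (m : Γ(F, f ⁻¹ᵁ U)) : ((M f F).over U).sections :=
  PresheafOfModules.sectionsMk
    (fun Y => (show ((M f F).over U).val.obj Y from
      F.presheaf.map (homOfLE (f.preimage_mono Y.unop.hom.le)).op m))
    (fun Y Z g => by
      exact map_map_apply F (homOfLE (f.preimage_mono g.unop.left.le))
        (homOfLE (f.preimage_mono Y.unop.hom.le)) (homOfLE (f.preimage_mono Z.unop.hom.le)) m)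

lemma sectOver_eval (U : S.Opens) (m : Γ(F, f ⁻¹ᵁ U)) (Y : (Over U)ᵒᵖ) :
    (sectOver f F U m).eval Y = (show ((M f F).over U).val.obj Y from
      F.presheaf.map (homOfLE (f.preimage_mono Y.unop.hom.le)).op m) := rfl

variable [F.IsQuasicoherent]

/-- (⟹) over an affine open of the base over which the sections of `F` are a finite module,
`f_* F` is generated by finitely many sections -/
theorem fg_over_of_finite (U : S.Opens) (hU : IsAffineOpen U)
    (hfin : Module.Finite Γ(X, f ⁻¹ᵁ U) Γ(F, f ⁻¹ᵁ U)) : FG ((M f F).over U) := by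
  classical
  obtain ⟨n, s, hs⟩ := Module.Finite.exists_fin (R := Γ(X, f ⁻¹ᵁ U)) (M := Γ(F, f ⁻¹ᵁ U))
  obtain ⟨s', hs'⟩ : ∃ s' : ULift.{u} (Fin n) → Γ(F, f ⁻¹ᵁ U), s' = fun i => s i.down := ⟨_, rfl⟩
  have hs'top : Submodule.span Γ(X, f ⁻¹ᵁ U) (Set.range s') = ⊤ := by
    have : Set.range s' = Set.range s := by
      rw [hs']
      exact Function.Surjective.range_comp ULift.down_surjective s
    rw [this, hs]
  have hV : IsAffineOpen (f ⁻¹ᵁ U) := IsAffineOpen.preimage hU f
  refine ⟨SheafOfModules.free (ULift.{u} (Fin n)), freeFin_free _,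
    ((M f F).over U).freeHomEquiv.symm (fun i => sectOver f F U (s' i)), ?_⟩
  apply epi_of_imgSieve_mem
  intro Y m
  rw [GrothendieckTopology.mem_over_iff]
  intro x hx
  obtain ⟨r, hrY, hxr⟩ := hU.exists_basicOpen_le (V := Y.left) ⟨x, hx⟩ (Y.hom.le hx)
  refine ⟨S.basicOpen r, homOfLE hrY, ?_, hxr⟩
  rw [Sieve.overEquiv_iff, imgSieve_apply]
  -- the algebra on `X`
  have hpre : f ⁻¹ᵁ S.basicOpen r = X.basicOpen (f.app U r) := Scheme.preimage_basicOpen f r
  have hW' : f ⁻¹ᵁ S.basicOpen r ≤ X.basicOpen (f.app U r) := hpre.le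
  have hW'V : f ⁻¹ᵁ S.basicOpen r ≤ f ⁻¹ᵁ U := f.preimage_mono (S.basicOpen_le r)
  have hgY : X.basicOpen (f.app U r) ≤ f ⁻¹ᵁ Y.left := hpre.ge.trans (f.preimage_mono hrY)
  obtain ⟨c, hc⟩ := mem_span_res F hV (f.app U r) s' hs'top hW' hW'V
    (F.presheaf.map (homOfLE hgY).op m)
  rw [map_map_apply F (homOfLE hW') (homOfLE hgY) (homOfLE (f.preimage_mono hrY)) m] at hc
  obtain ⟨a, ha⟩ := exists_app_eq_sum (A := (M f F).over U) (fun i => sectOver f F U (s' i))
    (op (Over.mk (homOfLE hrY ≫ Y.hom))) c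
  refine ⟨a, ?_⟩
  rw [ha]
  exact hc.symm

/-- (⟸) over an affine open of the base over which `f_* F` is generated by finitely many sections,
the sections of `F` are a finite module -/
theorem finite_of_fg_over (U : S.Opens) (hU : IsAffineOpen U)
    (h : FG ((M f F).over U)) : Module.Finite Γ(X, f ⁻¹ᵁ U) Γ(F, f ⁻¹ᵁ U) := by
  classical
  obtain ⟨P, ⟨I, hI, ⟨e⟩⟩, p, hp⟩ := h
  cases nonempty_fintype I
  haveI : Epi (e.inv ≫ p) := epi_comp _ _
  obtain ⟨σ, hσ⟩ : ∃ σ : I → ((M f F).over U).sections,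
      σ = ((M f F).over U).freeHomEquiv (e.inv ≫ p) := ⟨_, rfl⟩
  have hp' : e.inv ≫ p = ((M f F).over U).freeHomEquiv.symm σ := by
    rw [hσ, Equiv.symm_apply_apply]
  have hV : IsAffineOpen (f ⁻¹ᵁ U) := IsAffineOpen.preimage hU f
  obtain ⟨s, hs⟩ : ∃ s : I → Γ(F, f ⁻¹ᵁ U), s = fun i => (σ i).eval (op (Over.mk (𝟙 U))) :=
    ⟨_, rfl⟩
  have hσs : ∀ (i : I) (W : S.Opens) (h : W ⟶ U), (σ i).eval (op (Over.mk h)) =
      (show ((M f F).over U).val.obj (op (Over.mk h)) from
        F.presheaf.map (homOfLE (f.preimage_mono h.le)).op (s i)) := by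
    intro i W h
    rw [hs]
    exact (PresheafOfModules.sections_property (σ i)
      (Over.homMk h : Over.mk h ⟶ Over.mk (𝟙 U)).op).symm
  have hspan : Submodule.span Γ(X, f ⁻¹ᵁ U) (Set.range s) = ⊤ := by
    refine eq_top_iff.2 (fun t _ => ?_)
    -- the set of functions on the base over whose basic open `t` is a combination
    obtain ⟨Gs0, hGs0⟩ : ∃ Gs0 : Set Γ(S, U), Gs0 = {r | ∃ c : I → Γ(X, X.basicOpen (f.app U r)),
        F.presheaf.map (homOfLE (X.basicOpen_le (f.app U r))).op t =
          ∑ i, c i • F.presheaf.map (homOfLE (X.basicOpen_le (f.app U r))).op (s i)} := ⟨_, rfl⟩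
    have hcov : ⨆ r : Gs0, S.basicOpen (r : Γ(S, U)) = U := by
      apply le_antisymm
      · exact iSup_le (fun r => S.basicOpen_le _)
      · intro y hy
        have hmem := Groth.Agent.Lib.Helper19.ModLift.liftSieve_mem (e.inv ≫ p)
          (sectOver f F U t)
        obtain ⟨W, h, ⟨a, ha⟩, hyW⟩ := hmem y hy
        obtain ⟨r, hrW, hyr⟩ := hU.exists_basicOpen_le (V := W) ⟨y, hyW⟩ hy
        have hpre : f ⁻¹ᵁ S.basicOpen r = X.basicOpen (f.app U r) := Scheme.preimage_basicOpen f r
        have hgW : X.basicOpen (f.app U r) ≤ f ⁻¹ᵁ W := hpre.ge.trans (f.preimage_mono hrW)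
        have hrmem : r ∈ Gs0 := by
          rw [hGs0]
          refine ⟨fun i => X.presheaf.map (homOfLE hgW).op
            (show Γ(X, f ⁻¹ᵁ W) from (projFree i).val.app (op (Over.mk h)) a), ?_⟩
          rw [hp', app_freeHomEquiv_symm] at ha
          have ha' : F.presheaf.map (homOfLE (f.preimage_mono h.le)).op t =
              ∑ i, (show Γ(X, f ⁻¹ᵁ W) from (projFree i).val.app (op (Over.mk h)) a) •
                F.presheaf.map (homOfLE (f.preimage_mono h.le)).op (s i) := by
            refine Eq.trans ha.symm ?_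
            refine Finset.sum_congr rfl (fun i _ => ?_)
            rw [hσs i W h]
            rfl
          have h2 := congrArg (F.presheaf.map (homOfLE hgW).op) ha'
          rw [map_map_apply F (homOfLE hgW) (homOfLE (f.preimage_mono h.le))
            (homOfLE (X.basicOpen_le (f.app U r))) t, map_sum] at h2
          rw [h2]
          refine Finset.sum_congr rfl (fun i _ => ?_)
          rw [Scheme.Modules.map_smul, map_map_apply F (homOfLE hgW)
            (homOfLE (f.preimage_mono h.le)) (homOfLE (X.basicOpen_le (f.app U r))) (s i)]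
        exact (Opens.mem_iSup).2 ⟨⟨r, hrmem⟩, hyr⟩
    have hspan0 : Ideal.span Gs0 = ⊤ := (IsAffineOpen.iSup_basicOpen_eq_self_iff hU (s := Gs0)).1 hcov
    refine span_eq_top_of_locally F hV s t ((f.app U).hom '' Gs0) ?_ ?_
    · rw [← Ideal.map_span, hspan0, Ideal.map_top]
    · rintro _ ⟨r, hr, rfl⟩
      rw [hGs0] at hr
      exact hr
  rw [Module.finite_def, ← hspan]
  exact Submodule.fg_span (Set.finite_range s)

/-- the sieve of the opens contained in an affine open contained in `U` -/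
def affSieve (U : S.Opens) : Sieve U where
  arrows W _ := ∃ W' : S.Opens, IsAffineOpen W' ∧ W ≤ W' ∧ W' ≤ U
  downward_closed := by
    rintro W Z g ⟨W', hW', hle, hU⟩ k
    exact ⟨W', hW', k.le.trans hle, hU⟩

lemma affSieve_mem (U : S.Opens) : affSieve U ∈ Opens.grothendieckTopology S U := by
  intro x hx
  obtain ⟨W', hW'aff, hxW', hle⟩ := Opens.isBasis_iff_nbhd.mp S.isBasis_affineOpens hx
  exact ⟨W', homOfLE hle, ⟨W', hW'aff, le_rfl, hle⟩, hxW'⟩

/-- **EGA II 1.4.5 (finite type)**: for `f` affine and `F` quasi-coherent, `F` is of finite type iff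
`f_* F` is of finite type over `f_* O_X`. -/
theorem isFiniteType_dirImg_iff :
    SheafOfModules.IsFiniteType.{u} (R := X.ringCatSheaf) F ↔
      SheafOfModules.IsFiniteType.{u} (R := AMod.ringSheaf (RelSpec.QCAlg.directImage f))
        ((AMod.dirImg f).obj F) := by
  constructor
  · intro hft
    have hfin := (isFiniteType_iff_forall_finite F).1 hft
    refine (isFiniteType_iff (M f F)).2 (fun U => ⟨affSieve U, affSieve_mem U, ?_⟩)
    rintro W h ⟨W', hW'aff, hle, -⟩
    have hfg : FG ((M f F).over W') :=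
      fg_over_of_finite f F W' hW'aff (hfin ⟨f ⁻¹ᵁ W', IsAffineOpen.preimage hW'aff f⟩)
    exact FG.over_of_hom (M f F) (homOfLE hle) hfg
  · intro hft
    obtain ⟨T, hT, hT'⟩ := (isFiniteType_iff (M f F)).1 hft ⊤
    let κ : Type u := {U' : S.Opens // IsAffineOpen U' ∧ FG ((M f F).over U')}
    refine isFiniteType_of_isOpenCover F (fun k : κ => f ⁻¹ᵁ k.1) ?_ (fun k => ?_)
    · refine eq_top_iff.2 (fun x _ => ?_)
      obtain ⟨W, h, hTh, hxW⟩ := hT (f.base x) trivial
      obtain ⟨U', hU'aff, hxU', hle⟩ := Opens.isBasis_iff_nbhd.mp S.isBasis_affineOpens hxW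
      have hfg : FG ((M f F).over U') := FG.over_of_hom (M f F) (homOfLE hle) (hT' h hTh)
      exact (Opens.mem_iSup).2 ⟨⟨U', hU'aff, hfg⟩, hxU'⟩
    · exact exists_generatingSections_restrict_of_finite (IsAffineOpen.preimage k.2.1 f) F
        (finite_of_fg_over f F k.1 k.2.1 k.2.2)

end global

end Groth.Agent.Lib.RelVA.DirImgFT
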