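import Groth.Agent.Lib.RelVA.Ample
import Groth.Agent.Lib.Helper56.PullTensorC

/-!
# Pullback of `O_P(1)` along a topological embedding is relatively ample (lead)

ns `Groth.Agent.Lib.RelVA`.
* `isAmple_pullback_twist_one_of_isEmbedding` : as `isAmple_pullback_twist_one`, for `r : Z ⟶ Proj 𝒜` merely a
  topological embedding (`Z` quasi-compact).
* `isAmple_restrict_of_isRelTwist_of_isEmbedding`, `isRelAmple_of_isRelTwist_of_isEmbedding`.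
-/

universe u
open CategoryTheory CategoryTheory.Limits AlgebraicGeometry TopologicalSpace Opposite

namespace Groth.Agent.Lib.RelVA

open Groth.Agent.Lib.Ample Groth.Agent.Lib.QCoh Scheme.Modules

variable {A σ : Type u} [CommRing A] [SetLike σ A] [AddSubgroupClass σ A] {𝒜 : ℕ → σ} [GradedRing 𝒜]

theorem isAmple_pullback_twist_one_of_isEmbedding (hcov : (⨆ f : 𝒜 1, Proj.basicOpen 𝒜 (f : A)) = ⊤)
    {Z : Scheme.{u}} [CompactSpace Z] (r : Z ⟶ Proj 𝒜) (hr : Topology.IsEmbedding r.base) :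
    CohB1.IsAmple ((Scheme.Modules.pullback r).obj (GrTwist.twist 𝒜 1)) := by
  -- finitely many `D₊(g)`, `g ∈ 𝒜 1`, cover the image
  have hcov' : ∀ z : Z, ∃ g : 𝒜 1, r z ∈ Proj.basicOpen 𝒜 (g : A) := by
    intro z
    have h1 : r z ∈ (⊤ : (Proj 𝒜).Opens) := trivial
    rw [← hcov] at h1
    exact Opens.mem_iSup.1 h1
  obtain ⟨T, hT⟩ := isCompact_univ.elim_finite_subcover
    (fun g : 𝒜 1 => ((r ⁻¹ᵁ Proj.basicOpen 𝒜 (g : A) : Z.Opens) : Set Z))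
    (fun g => (r ⁻¹ᵁ Proj.basicOpen 𝒜 (g : A)).2)
    (fun z _ => by
      obtain ⟨g, hg⟩ := hcov' z
      exact Set.mem_iUnion.2 ⟨g, hg⟩)
  obtain ⟨W, hW⟩ : ∃ W : (Proj 𝒜).Opens, W = ⨆ g ∈ T, Proj.basicOpen 𝒜 ((g : 𝒜 1) : A) := ⟨_, rfl⟩
  have hWc : IsCompact (W : Set (Proj 𝒜)) := by
    rw [hW]
    simp only [Opens.coe_iSup]
    exact T.finite_toSet.isCompact_biUnion fun g _ =>
      (Proj.isAffineOpen_basicOpen 𝒜 (g : A) g.2 one_pos).isCompact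
  have hWcs : CompactSpace W.toScheme := isCompact_iff_compactSpace.mp hWc
  have hrange : Set.range r.base ⊆ Set.range W.ι.base := by
    rw [Scheme.Opens.range_ι]
    rintro _ ⟨z, rfl⟩
    obtain ⟨g, hg⟩ := Set.mem_iUnion.1 (hT (Set.mem_univ z))
    obtain ⟨hgT, hzg⟩ := Set.mem_iUnion.1 hg
    rw [hW]
    exact Opens.mem_iSup.2 ⟨g, Opens.mem_iSup.2 ⟨hgT, hzg⟩⟩
  obtain ⟨r', hr'⟩ : ∃ r' : Z ⟶ W.toScheme, r' ≫ W.ι = r :=
    ⟨IsOpenImmersion.lift W.ι r hrange, IsOpenImmersion.lift_fac _ _ _⟩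
  have hemb' : Topology.IsEmbedding r'.base := by
    refine Topology.IsEmbedding.of_comp r'.continuous W.ι.continuous ?_
    have : (W.ι.base : _ → _) ∘ (r'.base : _ → _) = r.base := by
      rw [← hr']
      rfl
    rw [this]
    exact hr
  have h1 : CohB1.IsAmple ((Scheme.Modules.pullback W.ι).obj (GrTwist.twist 𝒜 1)) :=
    isAmple_pullback_twist_one hcov W.ι
  have h2 := Groth.Agent.Lib.Helper56.PullTensor.isAmple_pullback_of_isEmbedding r' hemb' h1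
  exact isAmple_of_iso ((pullbackComp r' W.ι).app _ ≪≫ (pullbackCongr hr').app _) h2

theorem isAmple_restrict_of_isRelTwist_of_isEmbedding {X Y P : Scheme.{u}} (f : X ⟶ Y) [QuasiCompact f]
    (𝒮 : RelProj.QCGrAlg Y) (hgen : 𝒮.IsGenDegOne) (p : P ⟶ Y)
    (chart : ∀ (U : Y.Opens) (hU : IsAffineOpen U),
      (((p ⁻¹ᵁ U : P.Opens) : Scheme.{u}) ≅ Proj (𝒮.deg U hU)))
    (O1 : P.Modules)
    (lam : ∀ (U : Y.Opens) (hU : IsAffineOpen U),
      O1 ⟶ (Scheme.Modules.pushforward (RelProj.emb p chart U hU)).obj (GrTwist.twist (𝒮.deg U hU) 1))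
    (hT : RelProj.IsRelTwist 𝒮 p chart 1 O1 lam) (i : X ⟶ P) (hemb : Topology.IsEmbedding i.base)
    (hip : i ≫ p = f)
    (L : X.Modules) (e : L ≅ (Scheme.Modules.pullback i).obj O1) (U : Y.Opens) (hU : IsAffineOpen U) :
    CohB1.IsAmple (L.restrict (f ⁻¹ᵁ U).ι) := by
  have hcov := Groth.Agent.Lib.Proj.GrTw.iSup_basicOpen_eq_top_of_closure (𝒮.deg U hU) (hgen U hU)
  have hle : f ⁻¹ᵁ U ≤ i ⁻¹ᵁ (p ⁻¹ᵁ U) := by
    rw [← hip]
    exact le_rfl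
  have hcpt : CompactSpace (f ⁻¹ᵁ U).toScheme :=
    isCompact_iff_compactSpace.mp (QuasiCompact.isCompact_preimage (f := f) _ U.2 hU.isCompact)
  obtain ⟨r₀, hr₀⟩ : ∃ r₀ : (f ⁻¹ᵁ U).toScheme ⟶ (p ⁻¹ᵁ U).toScheme,
      r₀ = i.resLE (p ⁻¹ᵁ U) (f ⁻¹ᵁ U) hle := ⟨_, rfl⟩
  have hr₀ι : r₀ ≫ (p ⁻¹ᵁ U).ι = (f ⁻¹ᵁ U).ι ≫ i := by
    rw [hr₀, Scheme.Hom.resLE_comp_ι]
  have hr₀emb : Topology.IsEmbedding r₀.base := by
    refine Topology.IsEmbedding.of_comp r₀.continuous (p ⁻¹ᵁ U).ι.continuous ?_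
    have h1 : ((p ⁻¹ᵁ U).ι.base : _ → _) ∘ (r₀.base : _ → _) =
        (i.base : _ → _) ∘ ((f ⁻¹ᵁ U).ι.base : _ → _) := by
      have := congrArg (fun φ : (f ⁻¹ᵁ U).toScheme ⟶ P => (φ.base : _ → _)) hr₀ι
      exact this
    rw [h1]
    exact hemb.comp (f ⁻¹ᵁ U).ι.isOpenEmbedding.isEmbedding
  obtain ⟨r, hr⟩ : ∃ r : (f ⁻¹ᵁ U).toScheme ⟶ Proj (𝒮.deg U hU), r = r₀ ≫ (chart U hU).hom := ⟨_, rfl⟩
  have hremb : Topology.IsEmbedding r.base := by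
    have h1 : (r.base : _ → _) = ((chart U hU).hom.base : _ → _) ∘ (r₀.base : _ → _) := by
      rw [hr]
      rfl
    rw [h1]
    exact ((chart U hU).hom.homeomorph.isEmbedding).comp hr₀emb
  have hre : r ≫ RelProj.emb p chart U hU = (f ⁻¹ᵁ U).ι ≫ i := by
    rw [hr]
    unfold RelProj.emb
    rw [Category.assoc, Iso.hom_inv_id_assoc, hr₀ι]
  have hamp := isAmple_pullback_twist_one_of_isEmbedding hcov r hremb
  refine isAmple_of_iso ?_ hamp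
  exact ((restrictFunctor (f ⁻¹ᵁ U).ι).mapIso e ≪≫
    (restrictFunctorIsoPullback (f ⁻¹ᵁ U).ι).app _ ≪≫
    (pullbackComp (f ⁻¹ᵁ U).ι i).app O1 ≪≫
    (pullbackCongr hre.symm).app O1 ≪≫
    ((pullbackComp r (RelProj.emb p chart U hU)).app O1).symm ≪≫
    (Scheme.Modules.pullback r).mapIso
      (((restrictFunctorIsoPullback (RelProj.emb p chart U hU)).app O1).symm ≪≫
        Groth.Agent.Lib.Proj.RelTw.restrictEmbIso hT U hU)).symm

theorem isRelAmple_of_isRelTwist_of_isEmbedding {X Y P : Scheme.{u}} (f : X ⟶ Y) [QuasiCompact f]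
    (𝒮 : RelProj.QCGrAlg Y) (hgen : 𝒮.IsGenDegOne) (p : P ⟶ Y)
    (chart : ∀ (U : Y.Opens) (hU : IsAffineOpen U),
      (((p ⁻¹ᵁ U : P.Opens) : Scheme.{u}) ≅ Proj (𝒮.deg U hU)))
    (O1 : P.Modules)
    (lam : ∀ (U : Y.Opens) (hU : IsAffineOpen U),
      O1 ⟶ (Scheme.Modules.pushforward (RelProj.emb p chart U hU)).obj (GrTwist.twist (𝒮.deg U hU) 1))
    (hT : RelProj.IsRelTwist 𝒮 p chart 1 O1 lam) (i : X ⟶ P) (hemb : Topology.IsEmbedding i.base)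
    (hip : i ≫ p = f)
    (L : X.Modules) (e : L ≅ (Scheme.Modules.pullback i).obj O1) :
    RelAmple.IsRelAmple f L :=
  ⟨inferInstance, fun V =>
    isAmple_restrict_of_isRelTwist_of_isEmbedding f 𝒮 hgen p chart O1 lam hT i hemb hip L e V.1 V.2⟩

end Groth.Agent.Lib.RelVA
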