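import Groth.Agent.Lib.Proj.GrTwistAmple
import Groth.Agent.Lib.QCoh.TensorPic

/-!
# `O(d)` on `Proj` of a graded ring of finite type (additive-subgroup gradings) (lead)

ns `Groth.Agent.Lib.RelVA`.
* `exists_cover_of_finiteType` : `ρ : R →+* A` of finite type landing in degree `0` ⟹ for some `d > 0` the
  `D₊(g)`, `g ∈ 𝒜 d`, cover `Proj 𝒜`, and `Proj 𝒜` is quasi-compact.
* `iSup_basicOpen_mul_eq_top` : the cover property passes to positive multiples of `d`.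
* `isInvertible_twist_of_cover`, `isAmple_twist_of_cover` : then `O(d)` is invertible, and ample when `Proj 𝒜` is
  quasi-compact.
-/

universe u
open CategoryTheory CategoryTheory.Limits AlgebraicGeometry TopologicalSpace Opposite

namespace Groth.Agent.Lib.RelVA

open Groth.Agent.Lib.Ample Groth.Agent.Lib.QCoh Scheme.Modules Groth.Agent.Lib.GrTwA

variable {A σ : Type u} [CommRing A] [SetLike σ A] [AddSubgroupClass σ A] {𝒜 : ℕ → σ} [GradedRing 𝒜]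

theorem iSup_basicOpen_mul_eq_top {d : ℕ} (hcov : (⨆ g : 𝒜 d, Proj.basicOpen 𝒜 (g : A)) = ⊤)
    (k : ℕ) (hk : 0 < k) : (⨆ g : 𝒜 (k * d), Proj.basicOpen 𝒜 (g : A)) = ⊤ := by
  rw [eq_top_iff, ← hcov]
  refine iSup_le fun g => ?_
  have hg : (g : A) ^ k ∈ 𝒜 (k * d) := by
    have := SetLike.pow_mem_graded k g.2
    simpa [smul_eq_mul] using this
  refine le_trans (le_of_eq ?_) (le_iSup (fun g : 𝒜 (k * d) => Proj.basicOpen 𝒜 (g : A)) ⟨_, hg⟩)
  exact (Proj.basicOpen_pow 𝒜 (g : A) k hk).symm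

theorem exists_cover_of_finiteType {R : Type u} [CommRing R] (ρ : R →+* A) (hρ : ∀ r, ρ r ∈ 𝒜 0)
    (hft : ρ.FiniteType) :
    ∃ d : ℕ, 0 < d ∧ (⨆ g : 𝒜 d, Proj.basicOpen 𝒜 (g : A)) = ⊤ ∧ CompactSpace (Proj 𝒜) := by
  classical
  letI : Algebra R A := ρ.toAlgebra
  obtain ⟨S, hS⟩ : ∃ S : Finset A, Algebra.adjoin R (S : Set A) = ⊤ := hft.out
  -- the homogeneous components of positive degree
  let S' : Finset A := S.biUnion fun s =>
    ((DirectSum.decompose 𝒜 s).support.erase 0).image fun k => ((DirectSum.decompose 𝒜 s k : 𝒜 k) : A)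
  have hS'deg : ∀ x ∈ S', ∃ n : ℕ, 0 < n ∧ x ∈ 𝒜 n := by
    intro x hx
    obtain ⟨s, -, hx⟩ := Finset.mem_biUnion.1 hx
    obtain ⟨k, hk, rfl⟩ := Finset.mem_image.1 hx
    exact ⟨k, Nat.pos_of_ne_zero (Finset.ne_of_mem_erase hk), SetLike.coe_mem _⟩
  have hadj : Algebra.adjoin (𝒜 0) (S' : Set A) = ⊤ := by
    rw [eq_top_iff]
    rintro a -
    have ha : a ∈ Algebra.adjoin R (S : Set A) := hS ▸ Algebra.mem_top
    induction ha using Algebra.adjoin_induction with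
    | mem s hs =>
      rw [← DirectSum.sum_support_decompose 𝒜 s]
      refine Subalgebra.sum_mem _ fun k hk => ?_
      by_cases hk0 : k = 0
      · subst hk0
        exact Subalgebra.algebraMap_mem _ (DirectSum.decompose 𝒜 s 0)
      · refine Algebra.subset_adjoin ?_
        refine Finset.mem_coe.2 (Finset.mem_biUnion.2 ⟨s, hs, Finset.mem_image.2 ⟨k, ?_, rfl⟩⟩)
        exact Finset.mem_erase.2 ⟨hk0, hk⟩
    | algebraMap r =>
      exact Subalgebra.algebraMap_mem _ (⟨ρ r, hρ r⟩ : 𝒜 0)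
    | add x y _ _ hx hy => exact Subalgebra.add_mem _ hx hy
    | mul x y _ _ hx hy => exact Subalgebra.mul_mem _ hx hy
  have hcovS : (⨆ x : (S' : Set A), Proj.basicOpen 𝒜 (x : A)) = ⊤ :=
    Proj.iSup_basicOpen_eq_top' 𝒜 (fun x : (S' : Set A) => (x : A))
      (fun x => (hS'deg x.1 x.2).imp fun n hn => hn.2) (by simpa using hadj)
  choose! n hn0 hn using hS'deg
  refine ⟨∏ x ∈ S', n x, Finset.prod_pos fun x hx => hn0 x hx, ?_, ?_⟩
  · rw [eq_top_iff, ← hcovS]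
    refine iSup_le fun x => ?_
    have hx : x.1 ∈ S' := x.2
    obtain ⟨m, hm⟩ : n x.1 ∣ ∏ y ∈ S', n y := Finset.dvd_prod_of_mem n hx
    have hmpos : 0 < m := by
      rcases Nat.eq_zero_or_pos m with h | h
      · exfalso
        have hp : 0 < ∏ y ∈ S', n y := Finset.prod_pos fun y hy => hn0 y hy
        rw [hm, h, mul_zero] at hp
        exact lt_irrefl _ hp
      · exact h
    have hg : (x : A) ^ m ∈ 𝒜 (∏ y ∈ S', n y) := by
      have := SetLike.pow_mem_graded m (hn x.1 hx)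
      rw [hm, mul_comm]
      simpa [smul_eq_mul] using this
    refine le_trans (le_of_eq ?_)
      (le_iSup (fun g : 𝒜 (∏ y ∈ S', n y) => Proj.basicOpen 𝒜 (g : A)) ⟨_, hg⟩)
    exact (Proj.basicOpen_pow 𝒜 (x : A) m hmpos).symm
  · rw [← isCompact_univ_iff]
    have h2 : (Set.univ : Set (Proj 𝒜)) =
        ⋃ x : (S' : Set A), (Proj.basicOpen 𝒜 (x : A) : Set (Proj 𝒜)) := by
      have := congrArg (fun U : (Proj 𝒜).Opens => (U : Set (Proj 𝒜))) hcovS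
      simp only [Opens.coe_iSup, Opens.coe_top] at this
      exact this.symm
    rw [h2]
    have : Finite (S' : Set A) := S'.finite_toSet
    exact isCompact_iUnion fun x =>
      (Proj.isAffineOpen_basicOpen 𝒜 x.1 (hn x.1 x.2) (hn0 x.1 x.2)).isCompact

theorem isInvertible_twist_of_cover {d : ℕ}
    (hcov : (⨆ g : 𝒜 d, Proj.basicOpen 𝒜 (g : A)) = ⊤) :
    PicF.IsInvertible (GrTwist.twist 𝒜 (d : ℤ)) := by
  intro y
  have hy : y ∈ (⨆ g : 𝒜 d, Proj.basicOpen 𝒜 (g : A)) := hcov ▸ trivial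
  obtain ⟨g, hg⟩ := Opens.mem_iSup.mp hy
  have := Groth.Agent.Lib.Proj.GrTw.nonempty_twist_mul_restrict_iso_unit' g 1 _
    (le_refl (Proj.basicOpen 𝒜 g.1))
  simp only [one_mul] at this
  exact ⟨Proj.basicOpen 𝒜 g.1, hg, this⟩

theorem hasUnitFrac_of_cover_deg {d : ℕ}
    (hcov : (⨆ g : 𝒜 d, Proj.basicOpen 𝒜 (g : A)) = ⊤) : HasUnitFrac 𝒜 (d : ℤ) := by
  intro x
  have hx : x ∈ (⨆ g : 𝒜 d, Proj.basicOpen 𝒜 (g : A)) := hcov ▸ trivial
  obtain ⟨g, hg⟩ := Opens.mem_iSup.mp hx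
  have h1 : (1 : A) ∉ ProjectiveSpectrum.asHomogeneousIdeal (𝒜 := 𝒜) x :=
    Groth.Agent.Lib.Proj.GrTw.one_not_mem x
  exact ⟨d, 0, g, Groth.Agent.Lib.Proj.GrTw.one0 𝒜, hg, h1, by simp⟩

theorem isAmple_twist_of_cover {d : ℕ} (hd : 0 < d)
    (hcov : (⨆ g : 𝒜 d, Proj.basicOpen 𝒜 (g : A)) = ⊤) [CompactSpace (Proj 𝒜)] :
    CohB1.IsAmple (GrTwist.twist 𝒜 (d : ℤ)) := by
  refine ⟨isInvertible_twist_of_cover hcov, inferInstance, fun x => ?_⟩
  have hx : x ∈ (⨆ g : 𝒜 d, Proj.basicOpen 𝒜 (g : A)) := hcov ▸ trivial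
  obtain ⟨g, hxg⟩ := Opens.mem_iSup.mp hx
  have hgl : CohB1.genLocus (CohB1.tensorPow (GrTwist.twist 𝒜 (d : ℤ)) (0 + 1))
      (sectHom g ≫ (tensorPowOneIso (GrTwist.twist 𝒜 (d : ℤ))).symm.hom) =
      Proj.basicOpen 𝒜 g.1 := by
    rw [genLocus_comp_iso]
    exact genLocus_sectHom g (hasUnitFrac_of_cover_deg hcov)
  refine ⟨0, sectHom g ≫ (tensorPowOneIso (GrTwist.twist 𝒜 (d : ℤ))).symm.hom, ?_, ?_⟩
  · rw [hgl]; exact hxg
  · rw [hgl]; exact Proj.isAffineOpen_basicOpen 𝒜 g.1 g.2 hd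

end Groth.Agent.Lib.RelVA
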