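import Groth.Agent.Lib.RelVA.ProjProperAlg
import Groth.Agent.S8259
import Groth.Agent.S8260
import Groth.Agent.S8261

/-!
# Properness of `Proj 𝒜 → Spec R` when `𝒜` is generated in degree one with `𝒜 1` of finite type
over `R` (lead).  The degree-zero part `𝒜 0` may be big; `toSpecZero` factors through
`Spec (𝒜 0 ⧸ I)` which is integral over `R`.
-/

set_option autoImplicit false
universe u
open CategoryTheory CategoryTheory.Limits AlgebraicGeometry Opposite TopologicalSpace Polynomial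
open scoped HomogeneousIdeal

namespace Groth.Agent.Lib.RelVA.ProjProper

variable {R A : Type u} [CommRing R] [CommRing A] {σ : Type u} [SetLike σ A]
    [AddSubgroupClass σ A] (𝒜 : ℕ → σ) [GradedRing 𝒜] (s : R →+* 𝒜 0)

include s in
theorem exists_monic_eval₂_mul_eq_zero
    (T : Finset A) (hT : (↑T : Set A) ⊆ (𝒜 1 : Set A))
    (hspan : ∀ x ∈ 𝒜 1, ∃ c : A → R, x = ∑ t ∈ T, (s (c t) : A) * t) (a : 𝒜 0) :
    ∃ p : R[X], p.Monic ∧ ∀ x ∈ 𝒜 1, ((p.eval₂ s a : 𝒜 0) : A) * x = 0 := by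
  classical
  let φ : R →+* A := (algebraMap (𝒜 0) A).comp s
  letI : Algebra R A := φ.toAlgebra
  have hsm : ∀ (r : R) (x : A), r • x = (s r : A) * x := fun r x => rfl
  let M : Submodule R A := Submodule.span R (T : Set A)
  have hM1 : ∀ x ∈ M, x ∈ 𝒜 1 := by
    intro x hx
    induction hx using Submodule.span_induction with
    | mem x hx => exact hT hx
    | zero => exact zero_mem _
    | add x y _ _ hx hy => exact add_mem hx hy
    | smul r x _ hx =>
      rw [hsm]
      have := SetLike.mul_mem_graded (s r).2 hx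
      rwa [zero_add] at this
  have hM2 : ∀ x ∈ 𝒜 1, x ∈ M := by
    intro x hx
    obtain ⟨c, rfl⟩ := hspan x hx
    refine Submodule.sum_mem _ fun t ht => ?_
    rw [← hsm]
    exact Submodule.smul_mem _ _ (Submodule.subset_span ht)
  have ha : ∀ x ∈ M, (a : A) * x ∈ M := by
    intro x hx
    apply hM2
    have := SetLike.mul_mem_graded a.2 (hM1 x hx)
    rwa [zero_add] at this
  obtain ⟨p, hp, hp0⟩ := exists_monic_aeval_mul_eq_zero M (Submodule.fg_span T.finite_toSet) (a : A) ha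
  refine ⟨p, hp, fun x hx => ?_⟩
  have h1 : ((p.eval₂ s a : 𝒜 0) : A) = Polynomial.aeval (a : A) p := by
    rw [Polynomial.aeval_def]
    exact Polynomial.hom_eval₂ p s (algebraMap (𝒜 0) A) a
  rw [h1]
  exact hp0 x (hM2 x hx)

theorem appTop_eq_zero (T : Finset A) (hT : (↑T : Set A) ⊆ (𝒜 1 : Set A))
    (hirr : (HomogeneousIdeal.irrelevant 𝒜).toIdeal ≤ Ideal.span (Set.range (fun t : T => (t : A))))
    (b : 𝒜 0) (hb : ∀ x ∈ 𝒜 1, (b : A) * x = 0) :
    ((Scheme.ΓSpecIso (CommRingCat.of (𝒜 0))).inv ≫ (Proj.toSpecZero 𝒜).appTop).hom b = 0 := by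
  apply Scheme.zero_of_zero_cover (𝒰 := (Proj.affineOpenCoverOfIrrelevantLESpan 𝒜
    (fun t : T => (t : A)) (m := fun _ => 1) (fun t => hT t.2) (fun _ => Nat.one_pos) hirr).openCover)
  intro (t : T)
  change (Proj.awayι 𝒜 (t : A) (hT t.2) Nat.one_pos).appTop
    ((Proj.toSpecZero 𝒜).appTop ((Scheme.ΓSpecIso (CommRingCat.of (𝒜 0))).inv b)) = 0
  have h1 := Proj.awayι_toSpecZero 𝒜 (t : A) (hT t.2) Nat.one_pos
  have h2 : (Proj.toSpecZero 𝒜).appTop ≫ (Proj.awayι 𝒜 (t : A) (hT t.2) Nat.one_pos).appTop =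
      (Spec.map (CommRingCat.ofHom (HomogeneousLocalization.fromZeroRingHom 𝒜
        (Submonoid.powers (t : A))))).appTop := by
    rw [← Scheme.Hom.comp_appTop, h1]
  have h3 := Scheme.ΓSpecIso_inv_naturality (CommRingCat.ofHom
    (HomogeneousLocalization.fromZeroRingHom 𝒜 (Submonoid.powers (t : A))))
  rw [← ConcreteCategory.comp_apply, h2, ← ConcreteCategory.comp_apply, ← h3]
  have h4 : HomogeneousLocalization.fromZeroRingHom 𝒜 (Submonoid.powers (t : A)) b = 0 := by
    apply HomogeneousLocalization.val_injective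
    rw [HomogeneousLocalization.val_zero]
    change Localization.mk (b : A) 1 = 0
    rw [Localization.mk_eq_mk', IsLocalization.mk'_eq_zero_iff]
    exact ⟨⟨(t : A), 1, pow_one _⟩, by rw [mul_comm]; exact hb _ (hT t.2)⟩
  rw [ConcreteCategory.comp_apply]
  change (Scheme.ΓSpecIso (CommRingCat.of (HomogeneousLocalization.Away 𝒜 (t : A)))).inv
    (HomogeneousLocalization.fromZeroRingHom 𝒜 (Submonoid.powers (t : A)) b) = 0
  rw [h4, map_zero]

include s in
set_option backward.isDefEq.respectTransparency.types false in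
/-- `Proj 𝒜 → Spec 𝒜₀ → Spec R` is universally closed when `𝒜` is generated in degree one and
`𝒜 1` is finitely generated over `R`. -/
theorem proj_universallyClosed
    (hgen : Subring.closure ((𝒜 0 : Set A) ∪ (𝒜 1 : Set A)) = ⊤)
    (T : Finset A) (hT : (↑T : Set A) ⊆ (𝒜 1 : Set A))
    (hspan : ∀ x ∈ 𝒜 1, ∃ c : A → R, x = ∑ t ∈ T, (s (c t) : A) * t) :
    UniversallyClosed (Proj.toSpecZero 𝒜 ≫ Spec.map (CommRingCat.ofHom s)) := by
  classical
  have : Algebra.FiniteType (𝒜 0) A := ⟨⟨T, Groth.Agent.S8261.adjoin_eq_top 𝒜 s hgen T hspan⟩⟩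
  have hirr : (HomogeneousIdeal.irrelevant 𝒜).toIdeal ≤
      Ideal.span (Set.range (fun t : T => (t : A))) := by
    have h1 : Set.range (fun t : T => (t : A)) = (↑T : Set A) := Subtype.range_coe
    rw [h1]
    exact Groth.Agent.S8261.irrelevant_le_span 𝒜 s hgen T hspan
  obtain ⟨φ, hφ⟩ : ∃ φ : Proj 𝒜 ⟶ Spec (CommRingCat.of (𝒜 0)), φ = Proj.toSpecZero 𝒜 := ⟨_, rfl⟩
  have hφp : IsProper φ := by rw [hφ]; infer_instance
  obtain ⟨I, hI⟩ : ∃ I : Ideal (𝒜 0),
      I = RingHom.ker ((Scheme.ΓSpecIso (CommRingCat.of (𝒜 0))).inv ≫ φ.appTop).hom := ⟨_, rfl⟩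
  have hcomp := Scheme.Hom.liftQuotient_comp φ I hI.le
  have hg : IsProper (φ.liftQuotient I hI.le) := by
    have : IsProper (φ.liftQuotient I hI.le ≫
        Spec.map (CommRingCat.ofHom (Ideal.Quotient.mk I))) := by rw [hcomp]; exact hφp
    exact IsProper.of_comp _ (Spec.map (CommRingCat.ofHom (Ideal.Quotient.mk I)))
  obtain ⟨ψ, hψ⟩ : ∃ ψ : R →+* (𝒜 0 ⧸ I), ψ = (Ideal.Quotient.mk I).comp s := ⟨_, rfl⟩
  have hint : ψ.IsIntegral := by
    rw [hψ]
    intro z
    obtain ⟨a, rfl⟩ := Ideal.Quotient.mk_surjective z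
    obtain ⟨p, hp, hp0⟩ := exists_monic_eval₂_mul_eq_zero 𝒜 s T hT hspan a
    refine ⟨p, hp, ?_⟩
    rw [← Polynomial.hom_eval₂, Ideal.Quotient.eq_zero_iff_mem, hI, RingHom.mem_ker, hφ]
    exact appTop_eq_zero 𝒜 T hT hirr _ hp0
  have hih : IsIntegralHom (Spec.map (CommRingCat.ofHom (R := R) (S := 𝒜 0 ⧸ I) ψ)) := by
    rw [IsIntegralHom.SpecMap_iff]
    exact hint
  have heq : φ ≫ Spec.map (CommRingCat.ofHom s) =
      φ.liftQuotient I hI.le ≫ Spec.map (CommRingCat.ofHom (R := R) (S := 𝒜 0 ⧸ I) ψ) := by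
    rw [hψ, CommRingCat.ofHom_comp, Spec.map_comp, ← Category.assoc, hcomp]
  rw [← hφ, heq]
  infer_instance

set_option backward.isDefEq.respectTransparency.types false in
lemma uc_of_affineOpens {X Y : Scheme.{u}} (p : X ⟶ Y)
    (h : ∀ (U : Y.Opens), IsAffineOpen U → UniversallyClosed (p ∣_ U)) : UniversallyClosed p :=
  IsZariskiLocalAtTarget.of_iSup_eq_top (P := @UniversallyClosed)
    (fun i : Y.affineOpens => (i : Y.Opens)) (iSup_affineOpens_eq_top Y) (fun i => h i.1 i.2)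

/-- The relative homogeneous spectrum of a quasi-coherent graded algebra generated in degree one
with degree-one part of finite type is universally closed over the base. -/
theorem universallyClosed_of_isRelProj {Y P : Scheme.{u}} (𝒮 : RelProj.QCGrAlg Y)
    (hgen : 𝒮.IsGenDegOne) (hft : 𝒮.IsFTDeg 1) (p : P ⟶ Y)
    (chart : ∀ (U : Y.Opens) (hU : IsAffineOpen U),
      (((p ⁻¹ᵁ U : P.Opens) : Scheme.{u}) ≅ Proj (𝒮.deg U hU)))
    (hP : RelProj.IsRelProj 𝒮 p chart) : UniversallyClosed p := by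
  classical
  refine uc_of_affineOpens p fun U hU => ?_
  obtain ⟨T, hT, hspan⟩ := hft U hU
  have hmain := proj_universallyClosed (𝒮.deg U hU) (𝒮.strZero U hU).hom (hgen U hU) T hT
    (fun x hx => hspan x hx)
  have heq : p ∣_ U = (chart U hU).hom ≫ (Proj.toSpecZero (𝒮.deg U hU) ≫
      Spec.map (CommRingCat.ofHom (𝒮.strZero U hU).hom)) ≫ hU.isoSpec.inv := by
    rw [← cancel_mono U.ι]
    have h2 : (p ∣_ U) ≫ U.ι = (p ⁻¹ᵁ U).ι ≫ p := by simp
    rw [h2, ← hP.chart_over U hU]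
    simp only [Category.assoc, IsAffineOpen.isoSpec_inv_ι]
    rfl
  rw [heq]
  infer_instance

/-- The relative homogeneous spectrum of a quasi-coherent graded algebra generated in degree one
with degree-one part of finite type is proper over the base. -/
theorem isProper_of_isRelProj {Y P : Scheme.{u}} (𝒮 : RelProj.QCGrAlg Y)
    (hgen : 𝒮.IsGenDegOne) (hft : 𝒮.IsFTDeg 1) (p : P ⟶ Y)
    (chart : ∀ (U : Y.Opens) (hU : IsAffineOpen U),
      (((p ⁻¹ᵁ U : P.Opens) : Scheme.{u}) ≅ Proj (𝒮.deg U hU)))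
    (hP : RelProj.IsRelProj 𝒮 p chart) : IsProper p := by
  have h1 := Groth.Agent.S8261.result 𝒮 hgen hft p chart hP
  have h2 : IsSeparated p := Groth.Agent.S8259.result 𝒮 p chart hP
  have h3 := universallyClosed_of_isRelProj 𝒮 hgen hft p chart hP
  have := h1.1
  have := h1.2
  exact {}

end Groth.Agent.Lib.RelVA.ProjProper
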