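import Mathlib
import Groth.Agent.S8261

/-!
# Integrality of the degree-zero part modulo the annihilator of the degree-one part (lead)

`A` graded, generated by `𝒜 0 ∪ 𝒜 1`, `𝒜 1` spanned over `R` (through `s : R →+* 𝒜 0`) by a finite
set `T`.  Every `a ∈ 𝒜 0` satisfies a monic polynomial over `R` up to elements killing `𝒜 1`
(Cayley–Hamilton).
-/

set_option autoImplicit false
universe u
open Polynomial

namespace Groth.Agent.Lib.RelVA.ProjProper

variable {R A : Type u} [CommRing R] [CommRing A]

/-- Cayley–Hamilton in the form we need: `M` an `R`-submodule of the `R`-algebra `A`, finitely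
generated, stable under multiplication by `a`.  Then some monic `p` over `R` has `p(a) • M = 0`. -/
theorem exists_monic_aeval_mul_eq_zero [Algebra R A] (M : Submodule R A) (hM : M.FG) (a : A)
    (ha : ∀ x ∈ M, a * x ∈ M) :
    ∃ p : R[X], p.Monic ∧ ∀ x ∈ M, (Polynomial.aeval a p) * x = 0 := by
  classical
  have : Module.Finite R M := Module.Finite.iff_fg.mpr hM
  let ℓ : Module.End R M := (LinearMap.mulLeft R a).restrict ha
  obtain ⟨p, hp, hp0⟩ := LinearMap.exists_monic_and_aeval_eq_zero R ℓ
  refine ⟨p, hp, ?_⟩
  have hpow : ∀ (n : ℕ) (x : M), (((ℓ ^ n) x : M) : A) = a ^ n * x := by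
    intro n
    induction n with
    | zero => intro x; simp
    | succ n ih =>
      intro x
      rw [pow_succ', Module.End.mul_apply]
      change a * ((ℓ ^ n) x : A) = _
      rw [ih, pow_succ', mul_assoc]
  have key : ∀ (q : R[X]) (x : M), (((Polynomial.aeval ℓ q) x : M) : A) =
      (Polynomial.aeval a q) * x := by
    intro q
    induction q using Polynomial.induction_on' with
    | add q₁ q₂ h₁ h₂ =>
      intro x
      rw [map_add, LinearMap.add_apply, Submodule.coe_add, h₁, h₂, map_add, add_mul]
    | monomial n r =>
      intro x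
      rw [Polynomial.aeval_monomial, Polynomial.aeval_monomial, Module.End.mul_apply,
        Module.algebraMap_end_apply, Submodule.coe_smul, hpow, Algebra.algebraMap_eq_smul_one,
        smul_mul_assoc, one_mul, smul_mul_assoc]
  intro x hx
  have := key p ⟨x, hx⟩
  rw [hp0] at this
  simpa using this.symm

end Groth.Agent.Lib.RelVA.ProjProper
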