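import Groth.Agent.Lib.Proj.GrTwistAmple
import Groth.Agent.Lib.Ample.QuasiAffineCover
import Groth.Agent.Lib.Ample.Pullback
import Groth.Agent.Lib.Ample.Helper50_Basis
import Groth.Agent.Lib.QCoh.Invertible

/-!
# The pullback of `O(1)` along an immersion into `Proj 𝒜` is ample (lead)

ns `Groth.Agent.Lib.RelVA`.
* `isAmple_pullback_twist_one` : `𝒜` a graded ring (any additive-subgroup grading) whose `D₊(g)`, `g ∈ 𝒜 1`,
  cover `Proj 𝒜`; `Z` quasi-compact, `r : Z ⟶ Proj 𝒜` an immersion ⟹ `r^* O(1)` is ample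
  (`Proj 𝒜` itself need not be quasi-compact).
-/

universe u
open CategoryTheory CategoryTheory.Limits AlgebraicGeometry TopologicalSpace Opposite

namespace Groth.Agent.Lib.RelVA

open Groth.Agent.Lib.Ample Groth.Agent.Lib.QCoh Groth.Agent.Lib.GrTwA Scheme.Modules

variable {A σ : Type u} [CommRing A] [SetLike σ A] [AddSubgroupClass σ A] {𝒜 : ℕ → σ} [GradedRing 𝒜]

theorem isAmple_pullback_twist_one (hcov : (⨆ f : 𝒜 1, Proj.basicOpen 𝒜 (f : A)) = ⊤)
    {Z : Scheme.{u}} [CompactSpace Z] (r : Z ⟶ Proj 𝒜) [IsImmersion r] :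
    CohB1.IsAmple ((Scheme.Modules.pullback r).obj (GrTwist.twist 𝒜 1)) := by
  have hN : PicF.IsInvertible (GrTwist.twist 𝒜 ((1 : ℕ) : ℤ)) := by
    simpa using Groth.Agent.Lib.Proj.GrTw.isInvertible_twist hcov 1
  have hinv : PicF.IsInvertible ((Scheme.Modules.pullback r).obj (GrTwist.twist 𝒜 ((1 : ℕ) : ℤ))) :=
    isInvertible_pullback r hN
  have hqs : QuasiSeparatedSpace Z := quasiSeparatedSpace_of_quasiSeparated r
  have key : CohB1.IsAmple ((Scheme.Modules.pullback r).obj (GrTwist.twist 𝒜 ((1 : ℕ) : ℤ))) := by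
    refine isAmple_of_cover_isQuasiAffine hinv (fun g : 𝒜 1 => pullHom r (sectHom g))
      (fun x => ?_) (fun g => ?_)
    · have h1 : r x ∈ (⊤ : (Proj 𝒜).Opens) := trivial
      rw [← hcov] at h1
      obtain ⟨g, hg⟩ := Opens.mem_iSup.1 h1
      refine ⟨g, ?_⟩
      rw [genLocus_pullHom r hN, genLocus_sectHom g (hasUnitFrac_of_cover hcov _)]
      exact hg
    · have hgl : CohB1.genLocus _ (pullHom r (sectHom g)) = r ⁻¹ᵁ (Proj.basicOpen 𝒜 (g : A)) := by
        rw [genLocus_pullHom r hN, genLocus_sectHom g (hasUnitFrac_of_cover hcov _)]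
      have hc : IsCompact ((CohB1.genLocus _ (pullHom r (sectHom g)) : Z.Opens) : Set Z) := by
        have := isRetrocompact_genLocus hinv (pullHom r (sectHom g)) isCompact_univ isOpen_univ
        simpa using this
      rw [hgl] at hc ⊢
      have hWa : IsAffine (Proj.basicOpen 𝒜 (g : A)).toScheme :=
        Proj.isAffineOpen_basicOpen 𝒜 (g : A) g.2 one_pos
      have hWq : (Proj.basicOpen 𝒜 (g : A)).toScheme.IsQuasiAffine := inferInstance
      have : CompactSpace (r ⁻¹ᵁ (Proj.basicOpen 𝒜 (g : A))) := isCompact_iff_compactSpace.mp hc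
      exact Scheme.IsQuasiAffine.of_isImmersion (r ∣_ (Proj.basicOpen 𝒜 (g : A)))
  simpa using key

end Groth.Agent.Lib.RelVA
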