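import Groth.Agent.S9380
import Groth.Agent.Lib.QCoh.Helper66_QCAlgSub2
import Groth.Agent.Lib.QCoh.Helper66_SubSum
import Groth.Agent.Lib.Helper42.SpecMapLocal
import Groth.Agent.Lib.Helper89.FEtCoeq
import Groth.Agent.Lib.QCoh.Helper50_QAffMorA

/-!
# Factoring a quasi-affine morphism of finite type through an affine morphism of finite type (lead)

EGA II 5.1.9: `Y` quasi-compact separated, `f : X ⟶ Y` quasi-affine of finite type; then `f = j ≫ g`
with `j` an (open) immersion and `g` affine of finite type.  `X'' = Spec_Y(B')` for a quasi-coherent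
subalgebra of finite type `B' ⊆ f_* O_X`.
-/

set_option autoImplicit false
universe u
open CategoryTheory CategoryTheory.Limits AlgebraicGeometry Opposite TopologicalSpace

namespace Groth.Agent.Lib.RelVA.QAffFactor

section general

/-- an open immersion into the locus over which `k` is an isomorphism stays an open immersion
after composing with `k` -/
theorem isOpenImmersion_comp_of_isIso_restrict {X P Q : Scheme.{u}} (c : X ⟶ P)
    [IsOpenImmersion c] (k : P ⟶ Q) (W : Q.Opens) [IsIso (k ∣_ W)]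
    (h : c.opensRange ≤ k ⁻¹ᵁ W) : IsOpenImmersion (c ≫ k) := by
  have hr : Set.range c.base ⊆ Set.range (k ⁻¹ᵁ W).ι.base := by
    rw [Scheme.Opens.range_ι]
    exact h
  have hc' : IsOpenImmersion.lift (k ⁻¹ᵁ W).ι c hr ≫ (k ⁻¹ᵁ W).ι = c :=
    IsOpenImmersion.lift_fac _ _ _
  haveI : IsOpenImmersion (IsOpenImmersion.lift (k ⁻¹ᵁ W).ι c hr ≫ (k ⁻¹ᵁ W).ι) := by
    rw [hc']; infer_instance
  haveI : IsOpenImmersion (IsOpenImmersion.lift (k ⁻¹ᵁ W).ι c hr) :=
    IsOpenImmersion.of_comp _ (k ⁻¹ᵁ W).ι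
  have : c ≫ k = IsOpenImmersion.lift (k ⁻¹ᵁ W).ι c hr ≫ (k ∣_ W) ≫ W.ι := by
    rw [morphismRestrict_ι, ← Category.assoc, hc']
  rw [this]
  infer_instance

/-- being an isomorphism over each member of a family of opens implies being an isomorphism over
their union -/
theorem isIso_morphismRestrict_iSup {P Q : Scheme.{u}} (k : P ⟶ Q) {ι : Type u} (V : ι → Q.Opens)
    (hV : ∀ i, IsIso (k ∣_ V i)) : IsIso (k ∣_ ⨆ i, V i) := by
  let 𝒰 := Scheme.Opens.iSupOpenCover V
  refine (IsZariskiLocalAtTarget.iff_of_openCover (P := .isomorphisms _) 𝒰).mpr fun x ↦ ?_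
  refine (MorphismProperty.arrow_mk_iso_iff (.isomorphisms _)
    ((morphismRestrictRestrict ..).symm ≪≫ morphismRestrictOpensRange ..)).mp ?_
  have : Scheme.Opens.ι _ ''ᵁ (𝒰.f x).opensRange = V x := by
    simp only [Scheme.Opens.iSupOpenCover, 𝒰, ← Scheme.Hom.opensRange_comp, Scheme.homOfLE_ι,
      Scheme.Opens.opensRange_ι]
  convert! hV x

/-- ring lemma: the map of localizations induced by an injective ring map whose image together
with the inverse of `r` generates the target is bijective -/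
theorem bijective_awayMap {R' R S' S : Type*} [CommRing R'] [CommRing R] [CommRing S']
    [CommRing S] [Algebra R' S'] [Algebra R S] (ψ : R' →+* R) (hψ : Function.Injective ψ)
    (r' : R') [IsLocalization.Away r' S'] [IsLocalization.Away (ψ r') S]
    (hgen : Subring.closure (Set.range ((algebraMap R S).comp ψ) ∪
      {u | u * algebraMap R S (ψ r') = 1}) = ⊤) :
    Function.Bijective (IsLocalization.Away.map S' S ψ r') := by
  constructor
  · rw [injective_iff_map_eq_zero]
    intro x hx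
    obtain ⟨⟨a, ⟨_, n, rfl⟩⟩, hxa⟩ := IsLocalization.surj (Submonoid.powers r') x
    simp only at hxa
    have h1 : IsLocalization.Away.map S' S ψ r' (x * algebraMap R' S' (r' ^ n)) =
        algebraMap R S (ψ a) := by
      rw [hxa, IsLocalization.Away.map, IsLocalization.map_eq]
    rw [map_mul, hx, zero_mul] at h1
    obtain ⟨⟨_, m, rfl⟩, hm⟩ := (IsLocalization.map_eq_zero_iff (Submonoid.powers (ψ r')) S _).mp h1.symm
    simp only at hm
    have h2 : ψ (r' ^ m * a) = 0 := by rw [map_mul, map_pow]; exact hm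
    have h3 : r' ^ m * a = 0 := hψ (h2.trans (map_zero ψ).symm)
    have h4 : algebraMap R' S' a = 0 :=
      (IsLocalization.map_eq_zero_iff (Submonoid.powers r') S' a).mpr ⟨⟨_, m, rfl⟩, h3⟩
    have hu : IsUnit (algebraMap R' S' (r' ^ n)) :=
      IsLocalization.map_units S' (⟨r' ^ n, n, rfl⟩ : Submonoid.powers r')
    rw [h4] at hxa
    exact (hu.mul_left_eq_zero).mp hxa
  · rw [← RingHom.range_eq_top, eq_top_iff, ← hgen, Subring.closure_le]
    rintro s (⟨a, rfl⟩ | hs)
    · refine ⟨algebraMap R' S' a, ?_⟩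
      rw [IsLocalization.Away.map, IsLocalization.map_eq]
      rfl
    · have hs' : s * algebraMap R S (ψ r') = 1 := hs
      have h1 : algebraMap R S (ψ r') * IsLocalization.Away.invSelf (S := S) (ψ r') = 1 :=
        IsLocalization.Away.mul_invSelf _
      have hs2 : s = IsLocalization.Away.invSelf (S := S) (ψ r') := by
        calc s = s * (algebraMap R S (ψ r') * IsLocalization.Away.invSelf (S := S) (ψ r')) := by
              rw [h1, mul_one]
          _ = IsLocalization.Away.invSelf (S := S) (ψ r') := by rw [← mul_assoc, hs', one_mul]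
      rw [hs2]
      refine ⟨IsLocalization.Away.invSelf (S := S') r', ?_⟩
      rw [IsLocalization.Away.invSelf, IsLocalization.Away.invSelf, IsLocalization.Away.map,
        IsLocalization.map_mk', map_one]

/-- ring lemma: if `A₀ → R → R_r` is of finite type, then `R_r` is generated as a ring by the
images of `A₀`, of finitely many elements of `R`, and the inverse of `r` -/
theorem exists_finset_closure_eq_top {A₀ R T : Type*} [CommRing A₀] [CommRing R] [CommRing T]
    [Algebra R T] (r : R) [IsLocalization.Away r T] (ρ₀ : A₀ →+* R)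
    (hft : ((algebraMap R T).comp ρ₀).FiniteType) :
    ∃ F : Finset R, Subring.closure ((algebraMap R T) '' (↑F ∪ Set.range ρ₀) ∪
      {u | u * algebraMap R T r = 1}) = ⊤ := by
  classical
  letI := ((algebraMap R T).comp ρ₀).toAlgebra
  obtain ⟨G, hG⟩ := (show Algebra.FiniteType A₀ T from hft).out
  have hsurj : ∀ t : T, ∃ (a : R) (n : ℕ), t * algebraMap R T (r ^ n) = algebraMap R T a := by
    intro t
    obtain ⟨⟨a, ⟨_, n, rfl⟩⟩, h⟩ := IsLocalization.surj (Submonoid.powers r) t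
    exact ⟨a, n, h⟩
  choose a n han using hsurj
  refine ⟨G.image a, ?_⟩
  rw [eq_top_iff]
  have h1 : (Algebra.adjoin A₀ (↑G : Set T)).toSubring = ⊤ := by rw [hG]; rfl
  rw [← h1, Algebra.adjoin_eq_ring_closure, Subring.closure_le]
  have hmul : algebraMap R T r * IsLocalization.Away.invSelf (S := T) r = 1 :=
    IsLocalization.Away.mul_invSelf _
  have hinv : IsLocalization.Away.invSelf (S := T) r ∈ Subring.closure
      ((algebraMap R T) '' (↑(G.image a) ∪ Set.range ρ₀) ∪ {u | u * algebraMap R T r = 1}) :=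
    Subring.subset_closure (Or.inr (by
      show IsLocalization.Away.invSelf (S := T) r * algebraMap R T r = 1
      rw [mul_comm]; exact hmul))
  rintro t (⟨y, rfl⟩ | ht)
  · exact Subring.subset_closure (Or.inl ⟨ρ₀ y, Or.inr ⟨y, rfl⟩, rfl⟩)
  · have ht' : t = algebraMap R T (a t) * IsLocalization.Away.invSelf (S := T) r ^ n t := by
      rw [← han t, map_pow, mul_assoc, ← mul_pow, hmul, one_pow, mul_one]
    rw [ht']
    refine mul_mem (Subring.subset_closure (Or.inl ⟨a t, Or.inl ?_, rfl⟩)) (pow_mem hinv _)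
    exact Finset.mem_coe.mpr (Finset.mem_image_of_mem a ht)

end general

section gamma

variable {S : Scheme.{u}} {A B : RelSpec.QCAlg S} (φ : A ⟶ B) (U : S.Opens) (hU : IsAffineOpen U)

lemma specMap_preimage_π :
    RelSpec.QCAlg.specMap φ ⁻¹ᵁ (A.π ⁻¹ᵁ U) = B.π ⁻¹ᵁ U := by
  rw [← Scheme.Hom.comp_preimage, RelSpec.QCAlg.specMap_π]

lemma appLE_congr_hom {X Y : Scheme.{u}} {f g : X ⟶ Y} (h : f = g) (U : Y.Opens) (V : X.Opens)
    (e : V ≤ f ⁻¹ᵁ U) : f.appLE U V e = g.appLE U V (h ▸ e) := by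
  subst h; rfl

/-- naturality of the identification `Γ(Spec(A), π⁻¹ U) ≅ A(U)` in the algebra -/
theorem gammaAff_naturality :
    (RelSpec.QCAlg.specMap φ).appLE (A.π ⁻¹ᵁ U) (B.π ⁻¹ᵁ U) (specMap_preimage_π φ U).ge ≫
      B.gammaAff U hU = A.gammaAff U hU ≫ φ.hom.app (op U) := by
  unfold RelSpec.QCAlg.gammaAff
  rw [← Category.assoc, Scheme.Hom.appLE_comp_appLE,
    appLE_congr_hom (RelSpec.QCAlg.ι_specMap U hU φ), ← Scheme.Hom.appLE_comp_appLE _ _ _ ⊤ _
      (A.top_le_preimage U hU) le_top, Category.assoc, Category.assoc]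
  congr 1
  have h1 : (Spec.map (φ.hom.app (op U))).appLE ⊤ ⊤ le_top = (Spec.map (φ.hom.app (op U))).appTop := by
    simp only [Scheme.Hom.appLE, Scheme.Hom.appTop]
    exact (Category.comp_id _)
  rw [h1]
  exact Scheme.ΓSpecIso_naturality _

end gamma

section restrictIso

variable {S : Scheme.{u}} {A B : RelSpec.QCAlg S} (φ : A ⟶ B)

set_option backward.isDefEq.respectTransparency.types false in
instance isAffineHom_specMap : IsAffineHom (RelSpec.QCAlg.specMap φ) :=
  Groth.Agent.Lib.Helper42.SpecMapLocal.of_charts (Q := @IsAffineHom) φ (fun _ _ => inferInstance)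

/-- over a basic open `D(r')` of an affine chart of `Spec(A)`, the morphism `Spec(B) ⟶ Spec(A)`
is an isomorphism as soon as the localised ring map is bijective -/
theorem isIso_specMap_restrict_basicOpen (U' : A.spec.Opens) (hU' : IsAffineOpen U')
    (r' : Γ(A.spec, U'))
    (hbij : haveI := hU'.isLocalization_basicOpen r'
      haveI := (hU'.preimage (RelSpec.QCAlg.specMap φ)).isLocalization_basicOpen
        ((RelSpec.QCAlg.specMap φ).app U' r')
      Function.Bijective (IsLocalization.Away.map Γ(A.spec, A.spec.basicOpen r')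
      Γ(B.spec, B.spec.basicOpen ((RelSpec.QCAlg.specMap φ).app U' r'))
      ((RelSpec.QCAlg.specMap φ).app U').hom r')) :
    IsIso (RelSpec.QCAlg.specMap φ ∣_ (A.spec.basicOpen r')) := by
  have hpre : IsAffineOpen (RelSpec.QCAlg.specMap φ ⁻¹ᵁ U') := hU'.preimage _
  rw [isIso_morphismRestrict_iff_isIso_app _ (hU'.basicOpen r'),
    IsAffineOpen.app_basicOpen_eq_away_map _ hU' hpre r']
  haveI := hU'.isLocalization_basicOpen r'
  haveI := hpre.isLocalization_basicOpen ((RelSpec.QCAlg.specMap φ).app U' r')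
  haveI : IsIso (CommRingCat.ofHom (IsLocalization.Away.map Γ(A.spec, A.spec.basicOpen r')
      Γ(B.spec, B.spec.basicOpen ((RelSpec.QCAlg.specMap φ).app U' r'))
      ((RelSpec.QCAlg.specMap φ).app U').hom r')) :=
    (ConcreteCategory.isIso_iff_bijective _).mpr hbij
  infer_instance

end restrictIso

section finsetSub

open Groth.Agent.Lib.QCoh.QCAlgSub Groth.Agent.Lib.QCoh.SubExt Groth.Agent.Lib.QCoh

/-- finitely many sections over affine opens lie in one quasi-coherent subalgebra of finite type -/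
theorem exists_subalgebra_through_finset {Y : Scheme.{u}} [CompactSpace Y] [QuasiSeparatedSpace Y]
    (B : RelSpec.QCAlg Y)
    (T : Finset (Σ U : Y.affineOpens, B.presheaf.obj (op (U : Y.Opens)))) :
    ∃ (B' : RelSpec.QCAlg Y) (φ : B' ⟶ B),
      (∀ V : Y.Opens, Function.Injective (φ.hom.app (op V)).hom) ∧
      (∀ V : Y.affineOpens, (B'.str.app (op (V : Y.Opens))).hom.FiniteType) ∧
      ∀ t ∈ T, t.2 ∈ Set.range (φ.hom.app (op (t.1 : Y.Opens))).hom := by
  classical
  have h := fun t : T => exists_subFam_through_section_of_qcqs (F := B.toModule)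
    (t.1.1 : Y.Opens) t.1.1.2.isCompact ((toBS B _).symm t.1.2)
  choose N hloc hlfg hmem using h
  have hloc' := SubFam.lsum_isLocal N
  have hlfg' := SubFam.lsum_isLFG N hloc hlfg
  refine ⟨subAlg B (SubFam.lsum N) hloc' hlfg', subAlgHom B (SubFam.lsum N) hloc' hlfg',
    fun V => Subtype.val_injective, fun V => subAlg_finiteType B (SubFam.lsum N) hloc' hlfg' V, ?_⟩
  intro t ht
  exact ⟨⟨t.2, gen_le_alg B (SubFam.lsum N) _ (mem_gen_of_mem B (SubFam.lsum N)
    (SubFam.le_lsum N ⟨t, ht⟩ _ (hmem ⟨t, ht⟩)))⟩, rfl⟩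

end finsetSub

section gam

variable {S : Scheme.{u}} (A : RelSpec.QCAlg S) (U : S.Opens) (hU : IsAffineOpen U)

/-- transport-friendly version of `gammaAff` -/
noncomputable def gam (W : A.spec.Opens) (h : W = A.π ⁻¹ᵁ U) :
    Γ(A.spec, W) ⟶ A.presheaf.obj (op U) :=
  A.spec.presheaf.map (eqToHom h.symm).op ≫ A.gammaAff U hU

instance isIso_gam (W : A.spec.Opens) (h : W = A.π ⁻¹ᵁ U) : IsIso (gam A U hU W h) := by
  unfold gam
  haveI := Groth.Agent.S8255.isIso_gammaAff A U hU
  infer_instance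

lemma gam_rfl : gam A U hU _ rfl = A.gammaAff U hU := by
  simp [gam]

lemma gam_injective (W : A.spec.Opens) (h : W = A.π ⁻¹ᵁ U) :
    Function.Injective (gam A U hU W h).hom :=
  ((ConcreteCategory.isIso_iff_bijective (gam A U hU W h)).mp inferInstance).1

lemma gam_surjective (W : A.spec.Opens) (h : W = A.π ⁻¹ᵁ U) :
    Function.Surjective (gam A U hU W h).hom :=
  ((ConcreteCategory.isIso_iff_bijective (gam A U hU W h)).mp inferInstance).2

variable {A} in
theorem gam_specMap {B : RelSpec.QCAlg S} (φ : A ⟶ B) :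
    (RelSpec.QCAlg.specMap φ).app (A.π ⁻¹ᵁ U) ≫
      gam B U hU (RelSpec.QCAlg.specMap φ ⁻¹ᵁ (A.π ⁻¹ᵁ U)) (specMap_preimage_π φ U) =
    A.gammaAff U hU ≫ φ.hom.app (op U) := by
  rw [← gammaAff_naturality φ U hU]
  unfold gam
  rw [← Category.assoc]
  rfl

end gam

section selection

variable {X Y : Scheme.{u}} (f : X ⟶ Y) [LocallyOfFiniteType f] (B : RelSpec.QCAlg Y)

/-- local selection of generators: around each point `x` of `X ⊆ Spec(f_* O_X)` there are a basic
open `D(r) ⊆ X` of a chart and finitely many sections which, together with the base ring and the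
inverse of `r`, generate the functions on `D(r)` -/
theorem exists_selection (c : X ⟶ B.spec) [IsOpenImmersion c]
    (e : c ≫ B.π = f) (x : X) :
    ∃ (V : Y.Opens) (hV : IsAffineOpen V)
      (r : Γ(B.spec, B.π ⁻¹ᵁ V))
      (F : Finset (B.presheaf.obj (op V))),
      c.base x ∈ B.spec.basicOpen r ∧
      ∀ (W : B.spec.Opens)
        (h : W = B.π ⁻¹ᵁ V)
        (r₂ : Γ(B.spec, W)),
        (gam B V hV W h).hom r₂ =
          (B.gammaAff V hV).hom r →
        B.spec.basicOpen r₂ =
            B.spec.basicOpen r ∧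
          B.spec.basicOpen r₂ ≤ c.opensRange ∧
          Subring.closure
            ((algebraMap Γ(B.spec, W)
              Γ(B.spec,
                B.spec.basicOpen r₂)) ''
              ({a | (gam B V hV W h).hom a ∈ F} ∪
                Set.range (B.π.appLE V W (le_of_eq h)).hom) ∪
              {u | u * algebraMap Γ(B.spec, W)
                Γ(B.spec,
                  B.spec.basicOpen r₂) r₂ = 1}) = ⊤ := by
  classical
  obtain ⟨V, hV, hxV, -⟩ := exists_isAffineOpen_mem_and_subset (x := f.base x) (U := ⊤) trivial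
  have hUB : IsAffineOpen (B.π ⁻¹ᵁ V) := hV.preimage B.π
  have hcxU : c.base x ∈ B.π ⁻¹ᵁ V := by
    show B.π.base (c.base x) ∈ V
    rw [← Scheme.Hom.comp_apply, e]
    exact hxV
  obtain ⟨r, hrle, hxr⟩ := hUB.exists_basicOpen_le (V := c.opensRange) ⟨c.base x, ⟨x, rfl⟩⟩ hcxU
  have hDaff : IsAffineOpen (c ⁻¹ᵁ B.spec.basicOpen r) := by
    rw [← Scheme.Hom.isAffineOpen_iff_of_isOpenImmersion c, Scheme.Hom.image_preimage_eq_opensRange_inf,
      inf_eq_right.mpr hrle]
    exact hUB.basicOpen r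
  have hle : B.spec.basicOpen r ≤ B.π ⁻¹ᵁ V := B.spec.basicOpen_le r
  have hD : c ⁻¹ᵁ B.spec.basicOpen r ≤ f ⁻¹ᵁ V := by
    intro z hz
    have := hle hz
    show f.base z ∈ V
    rw [← e, Scheme.Hom.comp_apply]
    exact this
  have hft0 : (f.appLE V (c ⁻¹ᵁ B.spec.basicOpen r) hD).hom.FiniteType :=
    HasRingHomProperty.appLE (P := @LocallyOfFiniteType) f inferInstance ⟨V, hV⟩ ⟨_, hDaff⟩ hD
  haveI : IsIso (c.app (B.spec.basicOpen r)) := c.isIso_app _ hrle
  have hcomp : B.π.appLE V (B.spec.basicOpen r) hle ≫ c.app (B.spec.basicOpen r) =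
      f.appLE V (c ⁻¹ᵁ B.spec.basicOpen r) hD := by
    rw [Scheme.Hom.app_eq_appLE, Scheme.Hom.appLE_comp_appLE]
    exact appLE_congr_hom e _ _ _
  have hft : (B.π.appLE V (B.spec.basicOpen r) hle).hom.FiniteType := by
    have h1 : B.π.appLE V (B.spec.basicOpen r) hle =
        f.appLE V (c ⁻¹ᵁ B.spec.basicOpen r) hD ≫ inv (c.app (B.spec.basicOpen r)) := by
      rw [← hcomp, Category.assoc, IsIso.hom_inv_id, Category.comp_id]
    rw [h1, CommRingCat.hom_comp]
    refine RingHom.FiniteType.comp (RingHom.FiniteType.of_surjective _ ?_) hft0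
    exact ((ConcreteCategory.isIso_iff_bijective (inv (c.app (B.spec.basicOpen r)))).mp
      inferInstance).2
  haveI := hUB.isLocalization_basicOpen r
  have hft' : ((algebraMap Γ(B.spec, B.π ⁻¹ᵁ V) Γ(B.spec, B.spec.basicOpen r)).comp
      (B.π.app V).hom).FiniteType := by
    have h0 : (algebraMap Γ(B.spec, B.π ⁻¹ᵁ V) Γ(B.spec, B.spec.basicOpen r)).comp
        (B.π.app V).hom = (B.π.appLE V (B.spec.basicOpen r) hle).hom := rfl
    rw [h0]
    exact hft
  obtain ⟨F₀, hF₀⟩ := exists_finset_closure_eq_top r (B.π.app V).hom hft'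
  refine ⟨V, hV, r, F₀.image (B.gammaAff V hV).hom, hxr, ?_⟩
  intro W h r₂ hr₂
  subst h
  rw [gam_rfl] at hr₂
  have hinj := gam_injective B V hV _ rfl
  rw [gam_rfl] at hinj
  obtain rfl : r₂ = r := hinj hr₂
  refine ⟨rfl, hrle, ?_⟩
  rw [eq_top_iff, ← hF₀]
  refine Subring.closure_mono (Set.union_subset_union_left _ (Set.image_mono ?_))
  refine Set.union_subset_union ?_ ?_
  · intro a ha
    have hg : gam B V hV (B.π ⁻¹ᵁ V) rfl = B.gammaAff V hV := gam_rfl B V hV
    show (gam B V hV (B.π ⁻¹ᵁ V) rfl).hom a ∈ Finset.image (B.gammaAff V hV).hom F₀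
    rw [hg]
    exact Finset.mem_image_of_mem _ (Finset.mem_coe.mp ha)
  · rintro _ ⟨y, rfl⟩
    exact ⟨y, by rw [Scheme.Hom.app_eq_appLE]⟩

end selection

section main

open Groth.Agent.Lib.QCoh.QAffMor

set_option backward.isDefEq.respectTransparency.types false in
/-- a relative spectrum of an algebra of finite type over each affine open is locally of finite
type -/
theorem locallyOfFiniteType_π {Y : Scheme.{u}} (B' : RelSpec.QCAlg Y)
    (h : ∀ V : Y.affineOpens, (B'.str.app (op (V : Y.Opens))).hom.FiniteType) :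
    LocallyOfFiniteType B'.π :=
  Groth.Agent.Lib.Helper89.FEtCoeq.prop_π_aux @LocallyOfFiniteType B'
    (fun U hU => (HasRingHomProperty.Spec_iff (P := @LocallyOfFiniteType)).mpr (h ⟨U, hU⟩))

/-- core of EGA II 5.1.9: if `X` is quasi-compact, of finite type over `Y`, and open in
`Spec(B)`, then it is already open in `Spec(B')` for a sub-algebra `B' ⊆ B` of finite type -/
theorem exists_subalgebra_isOpenImmersion {X Y : Scheme.{u}} [CompactSpace Y]
    [QuasiSeparatedSpace Y] [CompactSpace X] (f : X ⟶ Y) [LocallyOfFiniteType f]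
    (B : RelSpec.QCAlg Y) (c : X ⟶ B.spec) [IsOpenImmersion c] (e : c ≫ B.π = f) :
    ∃ (B' : RelSpec.QCAlg Y) (φ : B' ⟶ B),
      (∀ V : Y.affineOpens, (B'.str.app (op (V : Y.Opens))).hom.FiniteType) ∧
      IsOpenImmersion (c ≫ RelSpec.QCAlg.specMap φ) := by
  classical
  choose V hV r F hxr hsel using exists_selection f B c e
  obtain ⟨T, hT⟩ := isCompact_univ.elim_finite_subcover
    (fun x : X => ((c ⁻¹ᵁ B.spec.basicOpen (r x) : X.Opens) : Set X))
    (fun x => (c ⁻¹ᵁ B.spec.basicOpen (r x)).2)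
    (fun x _ => Set.mem_iUnion.mpr ⟨x, hxr x⟩)
  obtain ⟨Tsec, hTsec⟩ : ∃ Tsec : Finset (Σ U : Y.affineOpens, B.presheaf.obj (op (U : Y.Opens))),
      Tsec = T.image (fun x => ⟨⟨V x, hV x⟩, (B.gammaAff (V x) (hV x)).hom (r x)⟩) ∪
        T.biUnion (fun x => (F x).image (fun a => ⟨⟨V x, hV x⟩, a⟩)) := ⟨_, rfl⟩
  obtain ⟨B', φ, hinj, hft, hmem⟩ := exists_subalgebra_through_finset B Tsec
  refine ⟨B', φ, hft, ?_⟩
  have hmem1 : ∀ x ∈ T, (B.gammaAff (V x) (hV x)).hom (r x) ∈
      Set.range (φ.hom.app (op (V x))).hom := by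
    intro x hx
    refine hmem ⟨⟨V x, hV x⟩, (B.gammaAff (V x) (hV x)).hom (r x)⟩ ?_
    rw [hTsec]
    exact Finset.mem_union_left _ (Finset.mem_image_of_mem _ hx)
  have hmem2 : ∀ x ∈ T, ∀ a ∈ F x, a ∈ Set.range (φ.hom.app (op (V x))).hom := by
    intro x hx a ha
    refine hmem ⟨⟨V x, hV x⟩, a⟩ ?_
    rw [hTsec]
    exact Finset.mem_union_right _ (Finset.mem_biUnion.mpr ⟨x, hx, Finset.mem_image_of_mem _ ha⟩)
  -- the elements `r'`
  have hr' : ∀ x : T, ∃ r' : Γ(B'.spec, B'.π ⁻¹ᵁ V x),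
      (φ.hom.app (op (V x))).hom ((B'.gammaAff (V x) (hV x)).hom r') =
        (B.gammaAff (V x) (hV x)).hom (r x) := by
    intro x
    obtain ⟨b', hb'⟩ := hmem1 x x.2
    obtain ⟨r', hr'⟩ := gam_surjective B' (V x) (hV x) _ rfl b'
    refine ⟨r', ?_⟩
    have hg : gam B' (V x) (hV x) (B'.π ⁻¹ᵁ V x) rfl = B'.gammaAff (V x) (hV x) := gam_rfl B' _ _
    rw [hg] at hr'
    rw [hr', hb']
  choose r' hr' using hr'
  have key : ∀ x : T, IsIso (RelSpec.QCAlg.specMap φ ∣_ B'.spec.basicOpen (r' x)) ∧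
      B.spec.basicOpen (r x) ≤ RelSpec.QCAlg.specMap φ ⁻¹ᵁ B'.spec.basicOpen (r' x) := by
    intro x
    have hcomm := gam_specMap (V x) (hV x) φ
    have hcomm' : ∀ a : Γ(B'.spec, B'.π ⁻¹ᵁ V x),
        (gam B (V x) (hV x) (RelSpec.QCAlg.specMap φ ⁻¹ᵁ (B'.π ⁻¹ᵁ V x))
          (specMap_preimage_π φ (V x))).hom
          (((RelSpec.QCAlg.specMap φ).app (B'.π ⁻¹ᵁ V x)).hom a) =
        (φ.hom.app (op (V x))).hom ((B'.gammaAff (V x) (hV x)).hom a) := by
      intro a
      have := congrArg (fun t => t.hom a) hcomm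
      simpa using this
    have hψ : Function.Injective ((RelSpec.QCAlg.specMap φ).app (B'.π ⁻¹ᵁ V x)).hom := by
      intro a b hab
      have h1 := congrArg (gam B (V x) (hV x) (RelSpec.QCAlg.specMap φ ⁻¹ᵁ (B'.π ⁻¹ᵁ V x))
          (specMap_preimage_π φ (V x))).hom hab
      rw [hcomm', hcomm'] at h1
      have h2 := hinj _ h1
      have hg : gam B' (V x) (hV x) (B'.π ⁻¹ᵁ V x) rfl = B'.gammaAff (V x) (hV x) := gam_rfl B' _ _
      have h3 := gam_injective B' (V x) (hV x) _ rfl
      rw [hg] at h3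
      exact h3 h2
    obtain ⟨h1, h2, h3⟩ := hsel x (RelSpec.QCAlg.specMap φ ⁻¹ᵁ (B'.π ⁻¹ᵁ V x))
      (specMap_preimage_π φ (V x)) (((RelSpec.QCAlg.specMap φ).app (B'.π ⁻¹ᵁ V x)).hom (r' x))
      (by rw [hcomm', hr'])
    refine ⟨?_, ?_⟩
    · apply isIso_specMap_restrict_basicOpen φ (B'.π ⁻¹ᵁ V x) ((hV x).preimage B'.π) (r' x)
      haveI := ((hV x).preimage B'.π).isLocalization_basicOpen (r' x)
      haveI := (((hV x).preimage B'.π).preimage (RelSpec.QCAlg.specMap φ)).isLocalization_basicOpen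
        ((RelSpec.QCAlg.specMap φ).app (B'.π ⁻¹ᵁ V x) (r' x))
      refine bijective_awayMap ((RelSpec.QCAlg.specMap φ).app (B'.π ⁻¹ᵁ V x)).hom hψ (r' x) ?_
      rw [eq_top_iff, ← h3]
      refine Subring.closure_mono (Set.union_subset_union_left _ ?_)
      rintro _ ⟨a, ha | ha, rfl⟩
      · obtain ⟨b', hb'⟩ := hmem2 x x.2 _ ha
        obtain ⟨a', ha'⟩ := gam_surjective B' (V x) (hV x) _ rfl b'
        have hg : gam B' (V x) (hV x) (B'.π ⁻¹ᵁ V x) rfl = B'.gammaAff (V x) (hV x) :=
          gam_rfl B' _ _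
        rw [hg] at ha'
        refine ⟨a', ?_⟩
        have : ((RelSpec.QCAlg.specMap φ).app (B'.π ⁻¹ᵁ V x)).hom a' = a := by
          apply gam_injective B (V x) (hV x) _ (specMap_preimage_π φ (V x))
          rw [hcomm', ha', hb']
        rw [RingHom.comp_apply, this]
      · obtain ⟨y, rfl⟩ := ha
        refine ⟨(B'.π.app (V x)).hom y, ?_⟩
        rw [RingHom.comp_apply]
        congr 1
        have h4 : B.π.appLE (V x) (RelSpec.QCAlg.specMap φ ⁻¹ᵁ (B'.π ⁻¹ᵁ V x))
            (le_of_eq (specMap_preimage_π φ (V x))) =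
            B'.π.app (V x) ≫ (RelSpec.QCAlg.specMap φ).app (B'.π ⁻¹ᵁ V x) := by
          rw [appLE_congr_hom (RelSpec.QCAlg.specMap_π φ).symm, Scheme.Hom.comp_appLE,
            Scheme.Hom.appLE_eq_app]
        rw [h4]
        rfl
    · rw [Scheme.preimage_basicOpen]
      exact le_of_eq h1.symm
  haveI := isIso_morphismRestrict_iSup (RelSpec.QCAlg.specMap φ)
    (fun x : T => B'.spec.basicOpen (r' x)) (fun x => (key x).1)
  refine isOpenImmersion_comp_of_isIso_restrict c (RelSpec.QCAlg.specMap φ)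
    (⨆ x : T, B'.spec.basicOpen (r' x)) ?_
  rintro _ ⟨z, rfl⟩
  obtain ⟨x, hxT, hz⟩ : ∃ x ∈ T, z ∈ c ⁻¹ᵁ B.spec.basicOpen (r x) := by
    have := hT (Set.mem_univ z)
    simpa using this
  have h5 := (key ⟨x, hxT⟩).2 hz
  show (RelSpec.QCAlg.specMap φ).base (c.base z) ∈ (⨆ x : T, B'.spec.basicOpen (r' x))
  exact Opens.mem_iSup.mpr ⟨⟨x, hxT⟩, h5⟩

/-- EGA II 5.1.9 -/
theorem exists_factor {X Y : Scheme.{u}} [CompactSpace Y] [Y.IsSeparated] (f : X ⟶ Y)
    (hf : Mor2.IsQuasiAffine f) [LocallyOfFiniteType f] :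
    ∃ (X'' : Scheme.{u}) (g : X'' ⟶ Y) (j : X ⟶ X''),
      IsAffineHom g ∧ LocallyOfFiniteType g ∧ IsOpenImmersion j ∧ j ≫ g = f := by
  haveI : QuasiCompact f := hf.1
  haveI : IsSeparated f := isSeparated_of_isQuasiAffine f hf
  obtain ⟨c, e, -, -, hc⟩ := (Groth.Agent.S9380.result f).mp hf
  haveI := hc
  haveI : CompactSpace X := QuasiCompact.compactSpace_of_compactSpace f
  obtain ⟨B', φ, hft, hoi⟩ := exists_subalgebra_isOpenImmersion f _ c e
  refine ⟨B'.spec, B'.π, c ≫ RelSpec.QCAlg.specMap φ, inferInstance,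
    locallyOfFiniteType_π B' hft, hoi, ?_⟩
  rw [Category.assoc, RelSpec.QCAlg.specMap_π, e]

end main

end Groth.Agent.Lib.RelVA.QAffFactor
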