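import Mathlib
import Groth.Agent.Lib.RelVA.QCohSAFT
import Groth.Agent.Lib.QCoh.Coherent

/-!
# Noetherian objects of `QCoh(X)` are of finite type (lead)

ns `Groth.Agent.Lib.RelVA.QCohNoeth`.
-/

set_option autoImplicit false
set_option linter.style.haveILetI false
set_option linter.unusedSectionVars false
universe u
open CategoryTheory CategoryTheory.Limits AlgebraicGeometry Opposite TopologicalSpace ZeroObject

namespace Groth.Agent.Lib.RelVA.QCohNoeth

open QCohCat Groth.Agent.Lib.RelVA.QCohSAFT

variable (X : Scheme.{u}) [CompactSpace X] [QuasiSeparatedSpace X]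

/-- the inclusion `QCoh X ⥤ X.Modules` preserves epimorphisms. -/
theorem epi_hom_of_epi {M N : QCoh X} (f : M ⟶ N) [Epi f] : Epi f.hom := by
  haveI : (isQCoh X).ι.PreservesEpimorphisms :=
    (isQCoh X).preservesEpimorphisms_ι_of_isNormalMonoCategory
  exact (inferInstance : Epi ((isQCoh X).ι.map f))

/-- a noetherian object of `QCoh X` (`X` qcqs) is a quotient of a finitely presented module. -/
theorem exists_epi_fp_of_isNoetherianObject (M : QCoh X) [IsNoetherianObject M] :
    ∃ (P : X.Modules) (p : P ⟶ M.obj), P.IsFinitePresentation ∧ Epi p := by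
  haveI : M.obj.IsQuasicoherent := M.property
  obtain ⟨I, _, _, _, D, c, ⟨hc⟩, hD⟩ :=
    Groth.Agent.Lib.QCoh.FiltColim.exists_filtered_colimit_fp M.obj
  let D' : I ⥤ QCoh X := (isQCoh X).lift D (fun i => by
    haveI := hD i
    exact (inferInstance : (D.obj i).IsQuasicoherent))
  let c' : Cocone D' :=
    { pt := M
      ι := { app := fun i => ObjectProperty.homMk (c.app i)
             naturality := fun i j f => by
               apply ObjectProperty.hom_ext
               exact c.naturality f } }
  have hc' : IsColimit c' := by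
    apply isColimitOfReflects (isQCoh X).ι
    exact IsColimit.ofIsoColimit hc (Cocones.ext (Iso.refl _) (fun i => by
      simp only [Iso.refl_hom, Category.comp_id]
      rfl))
  let S : I → Subobject M := fun i => imageSubobject (c'.ι.app i)
  have hmono : ∀ i j, i ≤ j → S i ≤ S j := by
    intro i j hij
    have h1 : D'.map (homOfLE hij) ≫ c'.ι.app j = c'.ι.app i := c'.w (homOfLE hij)
    show imageSubobject (c'.ι.app i) ≤ imageSubobject (c'.ι.app j)
    rw [← h1]
    exact imageSubobject_comp_le _ _
  -- a maximal element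
  obtain ⟨i0, hmax⟩ : ∃ i0, ∀ j, S i0 ≤ S j → S j ≤ S i0 := by
    have hwf : WellFoundedGT (Subobject M) := inferInstance
    obtain ⟨s, ⟨i0, rfl⟩, hs⟩ := hwf.wf.has_min (Set.range S) ⟨S (Classical.arbitrary I), ⟨_, rfl⟩⟩
    refine ⟨i0, fun j hj => ?_⟩
    by_contra hne
    exact hs (S j) ⟨j, rfl⟩ (lt_of_le_not_ge hj hne)
  have hall : ∀ j, S j ≤ S i0 := by
    intro j
    obtain ⟨k, hik, hjk⟩ := exists_ge_ge i0 j
    exact (hmono j k hjk).trans (hmax k (hmono i0 k hik))
  -- `c' i0` is an epimorphism
  haveI : Epi (c'.ι.app i0) := by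
    rw [Preadditive.epi_iff_cancel_zero]
    intro T g hg
    apply hc'.hom_ext
    intro j
    rw [comp_zero]
    have h2 : (S i0).arrow ≫ g = 0 := by
      rw [← cancel_epi (factorThruImageSubobject (c'.ι.app i0))]
      rw [← Category.assoc, imageSubobject_arrow_comp, hg, comp_zero]
    have h3 : c'.ι.app j = factorThruImageSubobject (c'.ι.app j) ≫ (S j).arrow :=
      (imageSubobject_arrow_comp _).symm
    rw [h3, Category.assoc, ← Subobject.ofLE_arrow (hall j), Category.assoc, h2, comp_zero,
      comp_zero]
  exact ⟨D.obj i0, c.app i0, hD i0, epi_hom_of_epi X (c'.ι.app i0)⟩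

/-- a noetherian object of `QCoh X` (`X` qcqs) is of finite type. -/
theorem isFiniteType_of_isNoetherianObject (M : QCoh X) [IsNoetherianObject M] :
    M.obj.IsFiniteType := by
  obtain ⟨P, p, hP, hp⟩ := exists_epi_fp_of_isNoetherianObject X M
  haveI := hP
  haveI := hp
  haveI : P.IsFiniteType := inferInstance
  exact Groth.Agent.Lib.QCoh.isFiniteType_of_epi p

end Groth.Agent.Lib.RelVA.QCohNoeth
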