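import Groth.Agent.Lib.RelVA.FiniteType
import Groth.Agent.Lib.Proj.Helper66_RelTwist
import Groth.Agent.Lib.Helper56.RelAmpleComp

/-!
# `O_X(d)` is invertible and relatively ample on `Proj` of a finite type graded algebra (lead)

ns `Groth.Agent.Lib.RelVA`.
* `exists_isRelAmple_relTwist` (= S5724).
-/

universe u
open CategoryTheory CategoryTheory.Limits AlgebraicGeometry TopologicalSpace Opposite

namespace Groth.Agent.Lib.RelVA

open Groth.Agent.Lib.Ample Groth.Agent.Lib.QCoh Scheme.Modules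

variable {X Y : Scheme.{u}} {𝒮 : RelProj.QCGrAlg Y} {f : X ⟶ Y}
  {chart : ∀ (U : Y.Opens) (hU : IsAffineOpen U),
    (((f ⁻¹ᵁ U : X.Opens) : Scheme.{u}) ≅ Proj (𝒮.deg U hU))}

/-- if `O(d)` is ample on `Proj 𝒮(U)`, then `O_X(d)` restricted to `f⁻¹U` is ample -/
theorem isAmple_restrict_of_isAmple_twist {n : ℤ} {L : X.Modules}
    {lam : ∀ (U : Y.Opens) (hU : IsAffineOpen U),
      L ⟶ (Scheme.Modules.pushforward (RelProj.emb f chart U hU)).obj (GrTwist.twist (𝒮.deg U hU) n)}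
    (hT : RelProj.IsRelTwist 𝒮 f chart n L lam) (U : Y.Opens) (hU : IsAffineOpen U)
    (h : CohB1.IsAmple (GrTwist.twist (𝒮.deg U hU) n)) :
    CohB1.IsAmple (L.restrict (f ⁻¹ᵁ U).ι) := by
  refine Groth.Agent.Lib.Helper56.RelAmple.isAmple_of_isAmple_restrict_of_isIso (chart U hU).inv ?_
  have e0 : L.restrict ((chart U hU).inv ≫ (f ⁻¹ᵁ U).ι) ≅ GrTwist.twist (𝒮.deg U hU) n :=
    Groth.Agent.Lib.Proj.RelTw.restrictEmbIso hT U hU
  exact isAmple_of_iso
    (e0.symm ≪≫ (Scheme.Modules.restrictFunctorComp (chart U hU).inv (f ⁻¹ᵁ U).ι).app L) h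

theorem exists_isRelAmple_relTwist [CompactSpace Y]
    (hft : ∀ (U : Y.Opens) (hU : IsAffineOpen U), (𝒮.str.app (op U)).hom.FiniteType) :
    ∃ d : ℕ, 0 < d ∧ ∀ (L : X.Modules)
      (lam : ∀ (U : Y.Opens) (hU : IsAffineOpen U),
        L ⟶ (Scheme.Modules.pushforward (RelProj.emb f chart U hU)).obj
          (GrTwist.twist (𝒮.deg U hU) (d : ℤ))),
      RelProj.IsRelTwist 𝒮 f chart (d : ℤ) L lam → PicF.IsInvertible L ∧ RelAmple.IsRelAmple f L := by
  classical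
  -- degrees over affine opens
  have hex : ∀ (U : Y.Opens) (hU : IsAffineOpen U), ∃ d : ℕ, 0 < d ∧
      (⨆ g : 𝒮.deg U hU d, Proj.basicOpen (𝒮.deg U hU) (g : 𝒮.presheaf.obj (op U))) = ⊤ ∧
      CompactSpace (Proj (𝒮.deg U hU)) := fun U hU =>
    exists_cover_of_finiteType (𝒜 := 𝒮.deg U hU) (𝒮.str.app (op U)).hom (𝒮.str_mem U hU)
      (hft U hU)
  choose dV hdV hcovV hcptV using hex
  -- `f` is quasi-compact
  have hqc : QuasiCompact f := by
    rw [quasiCompact_iff_forall_isAffineOpen]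
    intro U hU
    have : CompactSpace (Proj (𝒮.deg U hU)) := hcptV U hU
    have : CompactSpace (f ⁻¹ᵁ U).toScheme := (chart U hU).inv.homeomorph.compactSpace
    exact isCompact_iff_compactSpace.mpr this
  -- finite affine cover of `Y`
  obtain ⟨T, hT⟩ := isCompact_univ.elim_finite_subcover
    (fun V : {U : Y.Opens // IsAffineOpen U} => ((V : Y.Opens) : Set Y)) (fun V => V.1.2)
    (fun y _ => by
      obtain ⟨U, hU0, hyU, -⟩ := Opens.isBasis_iff_nbhd.1 (Y.isBasis_affineOpens)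
        (show y ∈ (⊤ : Y.Opens) from trivial)
      exact Set.mem_iUnion.2 ⟨⟨U, hU0⟩, hyU⟩)
  have hcovT : ∀ y : Y, ∃ V ∈ T, y ∈ (V : Y.Opens) := by
    intro y
    obtain ⟨V, hV⟩ := Set.mem_iUnion.1 (hT (Set.mem_univ y))
    obtain ⟨hVT, hyV⟩ := Set.mem_iUnion.1 hV
    exact ⟨V, hVT, hyV⟩
  have hdpos : 0 < ∏ V ∈ T, dV V.1 V.2 := Finset.prod_pos fun V _ => hdV V.1 V.2
  have hcovd : ∀ (U : Y.Opens) (hU : IsAffineOpen U), (⟨U, hU⟩ : {U : Y.Opens // IsAffineOpen U}) ∈ T →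
      (⨆ g : 𝒮.deg U hU (∏ V ∈ T, dV V.1 V.2),
        Proj.basicOpen (𝒮.deg U hU) (g : 𝒮.presheaf.obj (op U))) = ⊤ := by
    intro U hU hV
    obtain ⟨m, hm⟩ : dV U hU ∣ ∏ V ∈ T, dV V.1 V.2 :=
      Finset.dvd_prod_of_mem (fun V : {U : Y.Opens // IsAffineOpen U} => dV V.1 V.2) hV
    have hmpos : 0 < m := by
      rcases Nat.eq_zero_or_pos m with h | h
      · exfalso
        rw [hm, h, mul_zero] at hdpos
        exact lt_irrefl _ hdpos
      · exact h
    have := iSup_basicOpen_mul_eq_top (hcovV U hU) m hmpos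
    rw [hm, mul_comm]
    exact this
  refine ⟨∏ V ∈ T, dV V.1 V.2, hdpos, fun L lam hL => ⟨?_, ?_⟩⟩
  · refine isInvertible_of_openImmersion_cover L fun x => ?_
    obtain ⟨⟨U, hU⟩, hVT, hxV⟩ := hcovT (f x)
    refine ⟨Proj (𝒮.deg U hU), RelProj.emb f chart U hU, inferInstance, ?_, ?_⟩
    · exact ⟨(chart U hU).hom ⟨x, hxV⟩, Groth.Agent.Lib.Proj.RelTw.emb_chart_hom U hU ⟨x, hxV⟩⟩
    · exact isInvertible_of_iso (Groth.Agent.Lib.Proj.RelTw.restrictEmbIso hL U hU).symm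
        (isInvertible_twist_of_cover (hcovd U hU hVT))
  · refine Groth.Agent.Lib.Helper56.RelAmpleComp.isRelAmple_of_forall_isAmple_restrict f L
      (fun V : T => ((V : {U : Y.Opens // IsAffineOpen U}) : Y.Opens)) ?_ (fun V => V.1.2) (fun V => ?_)
    · rw [eq_top_iff]
      intro y _
      obtain ⟨V, hVT, hyV⟩ := hcovT y
      exact Opens.mem_iSup.2 ⟨⟨V, hVT⟩, hyV⟩
    · obtain ⟨⟨U, hU⟩, hVT⟩ := V
      have : CompactSpace (Proj (𝒮.deg U hU)) := hcptV U hU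
      exact isAmple_restrict_of_isAmple_twist hL U hU
        (isAmple_twist_of_cover hdpos (hcovd U hU hVT))

end Groth.Agent.Lib.RelVA
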