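import Mathlib

/-!
# Veronese generation lemma for finitely generated graded rings (lead)

Bourbaki AC III §1 no. 3 / EGA II 2.1.6 (v): for an `ℕ`-graded ring `S` of finite type over a ring
mapping to `S_0`, there is `m > 0` such that for every positive multiple `d` of `m`,
`S_{nd} = (S_d)^n` for all `n > 0` and `S_d` is a finitely generated `S_0`-module.
ns `Groth.Agent.Lib.RelVA.VeroneseGen`.
-/

set_option autoImplicit false
set_option linter.unusedSectionVars false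
open DirectSum

namespace Groth.Agent.Lib.RelVA.VeroneseGen

variable {S : Type*} [CommRing S] (𝒜 : ℕ → AddSubgroup S) [GradedRing 𝒜]

/-- the degree `k` part as a `ℤ`-submodule -/
def gr (k : ℕ) : Submodule ℤ S := AddSubgroup.toIntSubmodule (𝒜 k)

lemma mem_gr {k : ℕ} {s : S} : s ∈ gr 𝒜 k ↔ s ∈ 𝒜 k := Iff.rfl

lemma gr_mul_le (a b : ℕ) : gr 𝒜 a * gr 𝒜 b ≤ gr 𝒜 (a + b) := by
  rw [Submodule.mul_le]
  intro s hs t ht
  have hs' : s ∈ 𝒜 a := hs
  have ht' : t ∈ 𝒜 b := ht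
  show s * t ∈ 𝒜 (a + b)
  exact SetLike.mul_mem_graded hs' ht'

lemma one_le_gr_zero : (1 : Submodule ℤ S) ≤ gr 𝒜 0 := by
  rw [Submodule.one_le]
  exact (SetLike.GradedOne.one_mem : (1 : S) ∈ 𝒜 0)

lemma gr_pow_le (a n : ℕ) : gr 𝒜 a ^ n ≤ gr 𝒜 (n * a) := by
  induction n with
  | zero =>
    rw [pow_zero, Nat.zero_mul]
    exact one_le_gr_zero 𝒜
  | succ n ih =>
    rw [pow_succ, Nat.succ_mul]
    exact (mul_le_mul' ih le_rfl).trans (gr_mul_le 𝒜 _ _)

lemma gr_zero_mul_le (k : ℕ) : gr 𝒜 0 * gr 𝒜 k ≤ gr 𝒜 k := by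
  have := gr_mul_le 𝒜 0 k
  rwa [Nat.zero_add] at this

variable {σ : Type*} [Fintype σ] (x : σ → S) (h : σ → ℕ)

/-- monomial in the generators -/
def mon (α : σ → ℕ) : S := ∏ j, x j ^ α j

/-- weighted degree of an exponent vector -/
def wdeg (α : σ → ℕ) : ℕ := ∑ j, α j * h j

lemma mon_mem (hx : ∀ j, x j ∈ 𝒜 (h j)) (α : σ → ℕ) : mon x α ∈ 𝒜 (wdeg h α) := by
  unfold mon wdeg
  apply SetLike.prod_mem_graded
  intro j _
  have := SetLike.pow_mem_graded (α j) (hx j)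
  simpa [smul_eq_mul] using this

lemma mon_add (α β : σ → ℕ) : mon x (α + β) = mon x α * mon x β := by
  simp [mon, pow_add, Finset.prod_mul_distrib]

lemma wdeg_add (α β : σ → ℕ) : wdeg h (α + β) = wdeg h α + wdeg h β := by
  simp [wdeg, add_mul, Finset.sum_add_distrib]

lemma mon_zero : mon x (0 : σ → ℕ) = 1 := by simp [mon]

lemma wdeg_zero : wdeg h (0 : σ → ℕ) = 0 := by simp [wdeg]

lemma mon_single [DecidableEq σ] (j : σ) (c : ℕ) : mon x (Pi.single j c) = x j ^ c := by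
  unfold mon
  rw [Fintype.prod_eq_single j]
  · rw [Pi.single_eq_same]
  · intro i hi
    rw [Pi.single_eq_of_ne hi, pow_zero]

lemma wdeg_single [DecidableEq σ] (j : σ) (c : ℕ) : wdeg h (Pi.single j c) = c * h j := by
  unfold wdeg
  rw [Fintype.sum_eq_single j]
  · rw [Pi.single_eq_same]
  · intro i hi
    rw [Pi.single_eq_of_ne hi, Nat.zero_mul]

/-- the `S_0`-span of the monomials of weighted degree `k` -/
def P (k : ℕ) : Submodule ℤ S :=
  ⨆ (α : σ → ℕ) (_ : wdeg h α = k), gr 𝒜 0 * Submodule.span ℤ {mon x α}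

lemma span_mon_le (hx : ∀ j, x j ∈ 𝒜 (h j)) (α : σ → ℕ) :
    Submodule.span ℤ {mon x α} ≤ gr 𝒜 (wdeg h α) := by
  rw [Submodule.span_le, Set.singleton_subset_iff]
  exact mon_mem 𝒜 x h hx α

lemma P_le_gr (hx : ∀ j, x j ∈ 𝒜 (h j)) (k : ℕ) : P 𝒜 x h k ≤ gr 𝒜 k := by
  refine iSup₂_le fun α hα => ?_
  subst hα
  exact (mul_le_mul' le_rfl (span_mon_le 𝒜 x h hx α)).trans (gr_zero_mul_le 𝒜 _)

lemma le_P (α : σ → ℕ) : gr 𝒜 0 * Submodule.span ℤ {mon x α} ≤ P 𝒜 x h (wdeg h α) :=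
  le_iSup₂_of_le α rfl le_rfl

lemma P_mul_le (k l : ℕ) : P 𝒜 x h k * P 𝒜 x h l ≤ P 𝒜 x h (k + l) := by
  simp only [P, Submodule.iSup_mul, Submodule.mul_iSup]
  refine iSup₂_le fun α hα => iSup₂_le fun β hβ => ?_
  have h1 : gr 𝒜 0 * Submodule.span ℤ {mon x β} * (gr 𝒜 0 * Submodule.span ℤ {mon x α}) =
      (gr 𝒜 0 * gr 𝒜 0) * Submodule.span ℤ {mon x (β + α)} := by
    rw [mul_mul_mul_comm, Submodule.span_mul_span, Set.singleton_mul_singleton, mon_add]
  have h2 : gr 𝒜 0 * gr 𝒜 0 ≤ gr 𝒜 0 := gr_zero_mul_le 𝒜 0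
  rw [h1]
  refine (mul_le_mul' h2 le_rfl).trans ?_
  exact le_iSup₂_of_le (β + α) (by rw [wdeg_add, hα, hβ]) le_rfl

lemma iSup_P_mul_le : (⨆ k, P 𝒜 x h k) * (⨆ k, P 𝒜 x h k) ≤ ⨆ k, P 𝒜 x h k := by
  simp only [Submodule.iSup_mul, Submodule.mul_iSup]
  refine iSup_le fun k => iSup_le fun l => ?_
  exact (P_mul_le 𝒜 x h l k).trans (le_iSup (P 𝒜 x h) (l + k))

lemma iSup_P_eq_top (hgen : Subring.closure ((𝒜 0 : Set S) ∪ Set.range x) = ⊤) :
    ⨆ k, P 𝒜 x h k = ⊤ := by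
  classical
  rw [eq_top_iff]
  rintro s -
  have hs : s ∈ Subring.closure ((𝒜 0 : Set S) ∪ Set.range x) := by rw [hgen]; trivial
  have hone : (1 : S) ∈ ⨆ k, P 𝒜 x h k := by
    have h1 : (1 : S) ∈ gr 𝒜 0 * Submodule.span ℤ {mon x (0 : σ → ℕ)} := by
      have := Submodule.mul_mem_mul (one_le_gr_zero 𝒜 (Submodule.one_le.mp le_rfl))
        (Submodule.subset_span (Set.mem_singleton (mon x (0 : σ → ℕ))))
      have e : (1 : S) * mon x (0 : σ → ℕ) = 1 := by rw [mon_zero, mul_one]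
      rwa [e] at this
    exact (le_iSup (P 𝒜 x h) _) (le_P 𝒜 x h 0 h1)
  induction hs using Subring.closure_induction with
  | mem s hs =>
    rcases hs with hs | ⟨j, rfl⟩
    · have h1 : s ∈ gr 𝒜 0 * Submodule.span ℤ {mon x (0 : σ → ℕ)} := by
        have := Submodule.mul_mem_mul (show s ∈ gr 𝒜 0 from hs)
          (Submodule.subset_span (Set.mem_singleton (mon x (0 : σ → ℕ))))
        have e : s * mon x (0 : σ → ℕ) = s := by rw [mon_zero, mul_one]
        rwa [e] at this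
      exact (le_iSup (P 𝒜 x h) _) (le_P 𝒜 x h 0 h1)
    · have h1 : x j ∈ gr 𝒜 0 * Submodule.span ℤ {mon x (Pi.single j 1)} := by
        have := Submodule.mul_mem_mul (one_le_gr_zero 𝒜 (Submodule.one_le.mp le_rfl))
          (Submodule.subset_span (Set.mem_singleton (mon x (Pi.single j 1))))
        have e : (1 : S) * mon x (Pi.single j 1) = x j := by rw [mon_single, pow_one, one_mul]
        rwa [e] at this
      exact (le_iSup (P 𝒜 x h) _) (le_P 𝒜 x h _ h1)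
  | zero => exact zero_mem _
  | one => exact hone
  | add a b _ _ ha hb => exact add_mem ha hb
  | neg a _ ha => exact neg_mem ha
  | mul a b _ _ ha hb => exact iSup_P_mul_le 𝒜 x h (Submodule.mul_mem_mul ha hb)

lemma gr_le_P (hx : ∀ j, x j ∈ 𝒜 (h j))
    (hgen : Subring.closure ((𝒜 0 : Set S) ∪ Set.range x) = ⊤) (k : ℕ) :
    gr 𝒜 k ≤ P 𝒜 x h k := by
  intro s hs
  have hs' : s ∈ ⨆ l, P 𝒜 x h l := by rw [iSup_P_eq_top 𝒜 x h hgen]; trivial
  obtain ⟨π, hπ⟩ : ∃ π : S →ₗ[ℤ] S, ∀ t, π t = GradedRing.proj 𝒜 k t :=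
    ⟨(GradedRing.proj 𝒜 k).toIntLinearMap, fun _ => rfl⟩
  have hmap : ∀ l, (P 𝒜 x h l).map π ≤ P 𝒜 x h k := by
    intro l
    rw [Submodule.map_le_iff_le_comap]
    intro t ht
    have ht' : t ∈ 𝒜 l := P_le_gr 𝒜 x h hx l ht
    show π t ∈ P 𝒜 x h k
    rw [hπ, GradedRing.proj_apply]
    by_cases hlk : l = k
    · subst hlk
      rw [DirectSum.decompose_of_mem_same 𝒜 ht']
      exact ht
    · rw [DirectSum.decompose_of_mem_ne 𝒜 ht' hlk]
      exact zero_mem _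
  have h1 : π s ∈ (⨆ l, P 𝒜 x h l).map π := Submodule.mem_map_of_mem hs'
  rw [Submodule.map_iSup] at h1
  have h2 : π s ∈ P 𝒜 x h k := (iSup_le hmap) h1
  have h3 : π s = s := by
    rw [hπ, GradedRing.proj_apply, DirectSum.decompose_of_mem_same 𝒜 (show s ∈ 𝒜 k from hs)]
  rwa [h3] at h2

/-- key step: multiplication by `S_q` is eventually surjective, `q` the product of the degrees of
the generators -/
lemma gr_add_le (hx : ∀ j, x j ∈ 𝒜 (h j)) (hpos : ∀ j, 0 < h j)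
    (hgen : Subring.closure ((𝒜 0 : Set S) ∪ Set.range x) = ⊤) (k : ℕ)
    (hk : Fintype.card σ * ∏ j, h j ≤ k) :
    gr 𝒜 (k + ∏ j, h j) ≤ gr 𝒜 (∏ j, h j) * gr 𝒜 k := by
  classical
  refine (gr_le_P 𝒜 x h hx hgen _).trans ?_
  refine iSup₂_le fun α hα => ?_
  obtain ⟨q, hq⟩ : ∃ q, q = ∏ j, h j := ⟨_, rfl⟩
  rw [← hq] at hα hk ⊢
  have hqpos : 0 < q := hq ▸ Finset.prod_pos fun j _ => hpos j
  have hdvd : ∀ j, h j ∣ q := fun j => hq ▸ Finset.dvd_prod_of_mem h (Finset.mem_univ j)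
  -- pigeonhole
  obtain ⟨j, hj⟩ : ∃ j, q / h j ≤ α j := by
    by_contra hcon
    push Not at hcon
    have hle : ∀ j, α j * h j ≤ q := by
      intro j
      exact (Nat.mul_le_mul_right (h j) (hcon j).le).trans (Nat.div_mul_le_self q (h j))
    have : wdeg h α ≤ Fintype.card σ * q := by
      unfold wdeg
      calc ∑ j, α j * h j ≤ ∑ _j : σ, q := Finset.sum_le_sum fun j _ => hle j
        _ = Fintype.card σ * q := by simp
    omega
  obtain ⟨β, hβ⟩ : ∃ β : σ → ℕ, α = β + Pi.single j (q / h j) := by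
    refine ⟨Function.update α j (α j - q / h j), ?_⟩
    funext i
    by_cases hi : i = j
    · subst hi
      simp only [Pi.add_apply, Function.update_self, Pi.single_eq_same]
      omega
    · simp only [Pi.add_apply, Function.update_of_ne hi, Pi.single_eq_of_ne hi, add_zero]
  have hdeg : wdeg h β = k := by
    have := hα
    rw [hβ, wdeg_add, wdeg_single, Nat.div_mul_cancel (hdvd j)] at this
    omega
  have hm : mon x α = x j ^ (q / h j) * mon x β := by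
    rw [hβ, mon_add, mon_single, mul_comm]
  have hxq : x j ^ (q / h j) ∈ 𝒜 q := by
    have := SetLike.pow_mem_graded (q / h j) (hx j)
    rwa [smul_eq_mul, Nat.div_mul_cancel (hdvd j)] at this
  have hmβ : mon x β ∈ 𝒜 k := hdeg ▸ mon_mem 𝒜 x h hx β
  have h1 : Submodule.span ℤ {mon x α} ≤ gr 𝒜 q * gr 𝒜 k := by
    rw [Submodule.span_le, Set.singleton_subset_iff, hm]
    exact Submodule.mul_mem_mul (show _ ∈ gr 𝒜 q from hxq) (show _ ∈ gr 𝒜 k from hmβ)
  calc gr 𝒜 0 * Submodule.span ℤ {mon x α} ≤ gr 𝒜 0 * (gr 𝒜 q * gr 𝒜 k) := mul_le_mul' le_rfl h1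
    _ = (gr 𝒜 0 * gr 𝒜 q) * gr 𝒜 k := (mul_assoc _ _ _).symm
    _ ≤ gr 𝒜 q * gr 𝒜 k := mul_le_mul' (gr_zero_mul_le 𝒜 q) le_rfl

/-- core statement for homogeneous generators of positive degrees -/
theorem core (hx : ∀ j, x j ∈ 𝒜 (h j)) (hpos : ∀ j, 0 < h j)
    (hgen : Subring.closure ((𝒜 0 : Set S) ∪ Set.range x) = ⊤) :
    ∃ m : ℕ, 0 < m ∧ ∀ d : ℕ, 0 < d → m ∣ d →
      (∀ n : ℕ, 0 < n → gr 𝒜 (n * d) = gr 𝒜 d ^ n) ∧
      ∃ T : Finset S, (↑T : Set S) ⊆ (𝒜 d : Set S) ∧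
        gr 𝒜 d = gr 𝒜 0 * Submodule.span ℤ (↑T : Set S) := by
  classical
  obtain ⟨q, hq⟩ : ∃ q, q = ∏ j, h j := ⟨_, rfl⟩
  have hqpos : 0 < q := hq ▸ Finset.prod_pos fun j _ => hpos j
  have key : ∀ k, Fintype.card σ * q ≤ k → gr 𝒜 (k + q) ≤ gr 𝒜 q * gr 𝒜 k := by
    intro k hk
    rw [hq] at hk ⊢
    exact gr_add_le 𝒜 x h hx hpos hgen k hk
  have key2 : ∀ a k, Fintype.card σ * q ≤ k → gr 𝒜 (k + a * q) ≤ gr 𝒜 k * gr 𝒜 q ^ a := by
    intro a
    induction a with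
    | zero => intro k _; simp
    | succ a ih =>
      intro k hk
      have h1 : k + (a + 1) * q = (k + a * q) + q := by ring
      rw [h1, pow_succ, ← mul_assoc]
      refine (key (k + a * q) (hk.trans (Nat.le_add_right _ _))).trans ?_
      rw [mul_comm]
      exact mul_le_mul' (ih k hk) le_rfl
  refine ⟨(Fintype.card σ + 1) * q, Nat.mul_pos (Nat.succ_pos _) hqpos, ?_⟩
  rintro d hdpos ⟨c, rfl⟩
  have hcpos : 0 < c := by
    rcases Nat.eq_zero_or_pos c with rfl | hc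
    · simp at hdpos
    · exact hc
  obtain ⟨d, hd⟩ : ∃ d, d = (Fintype.card σ + 1) * q * c := ⟨_, rfl⟩
  rw [← hd] at hdpos ⊢
  have hdq : d = ((Fintype.card σ + 1) * c) * q := by rw [hd]; ring
  have hdge : Fintype.card σ * q ≤ d := by
    rw [hd]
    calc Fintype.card σ * q ≤ (Fintype.card σ + 1) * q := Nat.mul_le_mul_right _ (Nat.le_succ _)
      _ ≤ (Fintype.card σ + 1) * q * c := Nat.le_mul_of_pos_right _ hcpos
  have step : ∀ k, Fintype.card σ * q ≤ k → gr 𝒜 (k + d) ≤ gr 𝒜 k * gr 𝒜 d := by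
    intro k hk
    have h1 := key2 ((Fintype.card σ + 1) * c) k hk
    rw [← hdq] at h1
    refine h1.trans (mul_le_mul' le_rfl ?_)
    have h2 := gr_pow_le 𝒜 q ((Fintype.card σ + 1) * c)
    rwa [← hdq] at h2
  refine ⟨?_, ?_⟩
  · intro n hn
    refine le_antisymm ?_ (gr_pow_le 𝒜 d n)
    induction n with
    | zero => omega
    | succ n ih =>
      rcases Nat.eq_zero_or_pos n with rfl | hn'
      · simp
      · have h1 : (n + 1) * d = n * d + d := by ring
        rw [h1, pow_succ]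
        refine (step (n * d) (hdge.trans (Nat.le_mul_of_pos_left _ hn'))).trans ?_
        exact mul_le_mul' (ih hn') le_rfl
  · obtain ⟨T, hT⟩ : ∃ T : Finset S, T =
        ((Finset.univ : Finset (σ → Fin (d + 1))).filter
          (fun a => wdeg h (fun j => (a j : ℕ)) = d)).image (fun a => mon x (fun j => (a j : ℕ))) :=
      ⟨_, rfl⟩
    have hTsub : (↑T : Set S) ⊆ (𝒜 d : Set S) := by
      intro t ht
      rw [hT] at ht
      simp only [Finset.coe_image, Finset.coe_filter, Finset.mem_univ, true_and, Set.mem_image,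
        Set.mem_ofPred_eq] at ht
      obtain ⟨a, ha, rfl⟩ := ht
      have := mon_mem 𝒜 x h hx (fun j => (a j : ℕ))
      rwa [ha] at this
    refine ⟨T, hTsub, le_antisymm ?_ ?_⟩
    · refine (gr_le_P 𝒜 x h hx hgen d).trans ?_
      refine iSup₂_le fun α hα => mul_le_mul' le_rfl (Submodule.span_mono ?_)
      rw [Set.singleton_subset_iff, hT]
      have hαle : ∀ j, α j < d + 1 := by
        intro j
        have h1 : α j * h j ≤ wdeg h α :=
          Finset.single_le_sum (f := fun j => α j * h j) (fun _ _ => Nat.zero_le _)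
            (Finset.mem_univ j)
        have h2 : α j ≤ α j * h j := Nat.le_mul_of_pos_right _ (hpos j)
        omega
      simp only [Finset.coe_image, Finset.coe_filter, Finset.mem_univ, true_and, Set.mem_image,
        Set.mem_ofPred_eq]
      exact ⟨fun j => ⟨α j, hαle j⟩, hα, rfl⟩
    · refine (mul_le_mul' le_rfl (Submodule.span_le.mpr ?_)).trans (gr_zero_mul_le 𝒜 d)
      exact hTsub

/-- Veronese generation lemma for a graded ring of finite type over a ring mapping to degree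
zero -/
theorem of_finiteType {A : Type*} [CommRing A] (φ : A →+* S) (hφ : ∀ a, φ a ∈ 𝒜 0)
    (hft : φ.FiniteType) :
    ∃ m : ℕ, 0 < m ∧ ∀ d : ℕ, 0 < d → m ∣ d →
      (∀ n : ℕ, 0 < n → gr 𝒜 (n * d) = gr 𝒜 d ^ n) ∧
      ∃ T : Finset S, (↑T : Set S) ⊆ (𝒜 d : Set S) ∧
        gr 𝒜 d = gr 𝒜 0 * Submodule.span ℤ (↑T : Set S) := by
  classical
  letI := φ.toAlgebra
  obtain ⟨G, hG⟩ := (show Algebra.FiniteType A S from hft).out
  refine core 𝒜
    (σ := Σ g : ↥G, ↥((decompose 𝒜 g.1).support.filter (0 < ·)))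
    (fun p => ((decompose 𝒜 p.1.1 p.2.1 : 𝒜 _) : S)) (fun p => p.2.1)
    (fun p => SetLike.coe_mem _) (fun p => (Finset.mem_filter.mp p.2.2).2) ?_
  rw [eq_top_iff]
  have h1 : (Algebra.adjoin A (↑G : Set S)).toSubring = ⊤ := by rw [hG]; rfl
  rw [← h1, Algebra.adjoin_eq_ring_closure, Subring.closure_le]
  rintro s (⟨a, rfl⟩ | hs)
  · exact Subring.subset_closure (Or.inl (hφ a))
  · rw [← DirectSum.sum_support_decompose 𝒜 s]
    refine sum_mem fun i hi => ?_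
    rcases Nat.eq_zero_or_pos i with rfl | hipos
    · exact Subring.subset_closure (Or.inl (SetLike.coe_mem _))
    · exact Subring.subset_closure (Or.inr ⟨⟨⟨s, hs⟩, ⟨i, Finset.mem_filter.mpr ⟨hi, hipos⟩⟩⟩, rfl⟩)

end Groth.Agent.Lib.RelVA.VeroneseGen
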